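import Cfsg.Agent.R2.T1.N6L.Dat

/-!
# S5929, n = 6, p = 3: multiplicities (helper11)

`Mu ρ τ a n na nb m l` : the representation `ρ` of `A₆` in characteristic 3 has `n` factors `1`, `na` factors `3a` (the
one with the eigenvalues `ζ`, `ζ⁻¹`, `ζ + ζ⁻¹ = τ` of `a`), `nb` factors `3b`, `m` factors `4`, `l` factors `9`.
-/

set_option autoImplicit false

namespace Cfsg.Agent.R2.T1.N6L

open Module
open Cfsg.Agent.H952.F4 (ev es MaxAlt)
open Cfsg.Agent.R2.T1

universe u v

/-- the dimensions determined by the composition factors -/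
structure Mu {F : Type u} [Field F] {M : Type v} [AddCommGroup M] [Module F M]
    (ρ : Representation F ↥(alternatingGroup (Fin 6)) M) (τ : F) (a : ↥(alternatingGroup (Fin 6)))
    (n na nb m l : ℕ) : Prop where
  dim : finrank F M = n + 3 * na + 3 * nb + 4 * m + 9 * l
  two : ∀ x : ↥(alternatingGroup (Fin 6)), orderOf x = 2 → ev (ρ x) 1 = n + na + nb + 2 * m + 5 * l
  four : ∀ x : ↥(alternatingGroup (Fin 6)), orderOf x = 4 → ev (ρ x) 1 = n + na + nb + 3 * l
  five : ∀ x : ↥(alternatingGroup (Fin 6)), orderOf x = 5 → ev (ρ x) 1 = n + na + nb + l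
  qu : finrank F ↥(LinearMap.ker (Five.qd τ (ρ a))) = 2 * (na + m + 2 * l)
  qv : finrank F ↥(LinearMap.ker (Five.qd (-1 - τ) (ρ a))) = 2 * (nb + m + 2 * l)
  press : n ≤ finrank F ↥(Representation.invariants ρ) + 2 * m

/-- the multiplicities are determined by the dimensions -/
theorem Mu.unique {F : Type u} [Field F] {M : Type v} [AddCommGroup M] [Module F M]
    {ρ : Representation F ↥(alternatingGroup (Fin 6)) M} {τ : F} {a : ↥(alternatingGroup (Fin 6))}
    (ha : orderOf a = 5) {x y : ↥(alternatingGroup (Fin 6))} (hx : orderOf x = 2) (hy : orderOf y = 4)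
    {n na nb m l n' na' nb' m' l' : ℕ} (h : Mu ρ τ a n na nb m l) (h' : Mu ρ τ a n' na' nb' m' l') :
    n = n' ∧ na = na' ∧ nb = nb' ∧ m = m' ∧ l = l' := by
  have h1 := h.dim
  have h2 := h.two x hx
  have h3 := h.four y hy
  have h4 := h.five a ha
  have h5 := h.qu
  have h6 := h.qv
  rw [h'.dim] at h1
  rw [h'.two x hx] at h2
  rw [h'.four y hy] at h3
  rw [h'.five a ha] at h4
  rw [h'.qu] at h5
  rw [h'.qv] at h6
  omega

end Cfsg.Agent.R2.T1.N6L
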