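import Mathlib
import Cfsg.Agent.R2.T1.N6L.MuDef

/-!
# S5929, n = 6, p = 3: base change of representations (helper14)

* `bcRep K ρ` : the representation `g ↦ (ρ g).baseChange K` on `K ⊗[F] M`;
* `finrank_ker_bc`, `finrank_iInf_ker_bc` : kernels;
* `ev_bc`, `qd_bc`, `inv_bc` : eigenspaces, `ker qd`, invariants;
* `Mu.of_bc` : `Mu` descends.
-/

set_option autoImplicit false
set_option linter.unusedSectionVars false

namespace Cfsg.Agent.R2.T1.N6L

open Module TensorProduct
open Cfsg.Agent.H952.F4 (ev es)
open Cfsg.Agent.R2.T1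

universe u v w

section lin

variable {F : Type u} [Field F] (K : Type w) [Field K] [Algebra F K]
variable {M : Type v} [AddCommGroup M] [Module F M] {N : Type*} [AddCommGroup N] [Module F N]

/-- kernels -/
theorem finrank_ker_bc (f : M →ₗ[F] N) :
    finrank K ↥(LinearMap.ker (f.baseChange K)) = finrank F ↥(LinearMap.ker f) := by
  have e := LinearMap.tensorKerEquiv K K f
  have h : finrank K ↥(LinearMap.ker (f.baseChange K)) = finrank K (K ⊗[F] LinearMap.ker f) := (e.finrank_eq).symm
  rw [h, Module.finrank_baseChange]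

/-- intersections of kernels -/
theorem finrank_iInf_ker_bc {ι : Type*} [Finite ι] {N : ι → Type*} [∀ i, AddCommGroup (N i)] [∀ i, Module F (N i)]
    (f : ∀ i, M →ₗ[F] N i) :
    finrank K ↥(⨅ i, LinearMap.ker ((f i).baseChange K)) = finrank F ↥(⨅ i, LinearMap.ker (f i)) := by
  classical
  have := Fintype.ofFinite ι
  rw [← LinearMap.ker_pi, ← LinearMap.ker_pi, ← finrank_ker_bc K (LinearMap.pi f)]
  have h : LinearMap.pi (fun i => (f i).baseChange K) =
      (TensorProduct.piRight F K K N).toLinearMap ∘ₗ (LinearMap.pi f).baseChange K := by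
    ext x i
    simp [LinearMap.baseChange_tmul]
  rw [h, LinearEquiv.ker_comp]

variable {K}

theorem ker_ne_bot_of_bc {f : M →ₗ[F] N} (h : LinearMap.ker (f.baseChange K) ≠ ⊥) [FiniteDimensional F M] :
    LinearMap.ker f ≠ ⊥ := by
  intro h0
  apply h
  have h1 := finrank_ker_bc K f
  rw [h0, finrank_bot] at h1
  exact Submodule.finrank_eq_zero.1 h1

theorem iInf_ne_bot_of_bc {ι : Type*} [Finite ι] {N : ι → Type*} [∀ i, AddCommGroup (N i)] [∀ i, Module F (N i)]
    [FiniteDimensional F M] {f : ∀ i, M →ₗ[F] N i} (h : (⨅ i, LinearMap.ker ((f i).baseChange K)) ≠ ⊥) :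
    (⨅ i, LinearMap.ker (f i)) ≠ ⊥ := by
  intro h0
  apply h
  have h1 := finrank_iInf_ker_bc K f
  rw [h0, finrank_bot] at h1
  exact Submodule.finrank_eq_zero.1 h1

variable (K)

/-- eigenspaces -/
theorem ev_bc (T : Module.End F M) (μ : F) : ev (T.baseChange K : Module.End K (K ⊗[F] M)) (algebraMap F K μ) = ev T μ := by
  have h : (T - μ • (1 : Module.End F M)).baseChange K =
      (T.baseChange K : Module.End K (K ⊗[F] M)) - algebraMap F K μ • 1 := by
    rw [LinearMap.baseChange_sub, LinearMap.baseChange_smul, LinearMap.baseChange_one F M, algebraMap_smul]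
  rw [ev, ev, Module.End.eigenspace_def, Module.End.eigenspace_def, ← finrank_ker_bc K (T - μ • (1 : Module.End F M)), h]

theorem ev_bc_one (T : Module.End F M) : ev (T.baseChange K : Module.End K (K ⊗[F] M)) 1 = ev T 1 := by
  have h := ev_bc K T 1
  rwa [map_one] at h

theorem qd_bc (T : Module.End F M) (t : F) :
    finrank K ↥(LinearMap.ker (Five.qd (algebraMap F K t) (T.baseChange K : Module.End K (K ⊗[F] M)))) =
      finrank F ↥(LinearMap.ker (Five.qd t T)) := by
  have h : (Five.qd t T).baseChange K = Five.qd (algebraMap F K t) (T.baseChange K : Module.End K (K ⊗[F] M)) := by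
    rw [Five.qd, Five.qd, LinearMap.baseChange_add, LinearMap.baseChange_sub, LinearMap.baseChange_smul,
      LinearMap.baseChange_one F M, LinearMap.baseChange_mul, algebraMap_smul]
  rw [← finrank_ker_bc K (Five.qd t T), h]

end lin

section rep

variable {F : Type u} [Field F] (K : Type w) [Field K] [Algebra F K] {G : Type*} [Group G]
variable {M : Type v} [AddCommGroup M] [Module F M]

/-- base change of a representation -/
noncomputable def bcRep (ρ : Representation F G M) : Representation K G (K ⊗[F] M) where
  toFun g := (ρ g).baseChange K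
  map_one' := by
    rw [map_one]
    exact LinearMap.baseChange_one F M
  map_mul' g h := by
    rw [map_mul]
    exact LinearMap.baseChange_mul (ρ g) (ρ h)

theorem bcRep_apply (ρ : Representation F G M) (g : G) : bcRep K ρ g = (ρ g).baseChange K := rfl

theorem bcRep_tmul (ρ : Representation F G M) (g : G) (a : K) (x : M) : bcRep K ρ g (a ⊗ₜ x) = a ⊗ₜ ρ g x := rfl

theorem bcRep_comp {G' : Type*} [Group G'] (ρ : Representation F G M) (π : G' →* G) :
    bcRep K (MonoidHom.comp ρ π : Representation F G' M) = MonoidHom.comp (bcRep K ρ) π := rfl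

theorem finrank_inv_bc [Finite G] (ρ : Representation F G M) :
    finrank K ↥(bcRep K ρ).invariants = finrank F ↥ρ.invariants := by
  have h1 : ρ.invariants = ⨅ g, LinearMap.ker (ρ g - 1) := by
    ext x
    rw [Submodule.mem_iInf, Representation.mem_invariants]
    refine forall_congr' fun g => ?_
    rw [LinearMap.mem_ker, LinearMap.sub_apply, sub_eq_zero]
    rfl
  have h2 : (bcRep K ρ).invariants = ⨅ g, LinearMap.ker ((ρ g - 1).baseChange K) := by
    ext x
    rw [Submodule.mem_iInf, Representation.mem_invariants]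
    refine forall_congr' fun g => ?_
    rw [LinearMap.mem_ker, LinearMap.baseChange_sub, LinearMap.sub_apply, sub_eq_zero, LinearMap.baseChange_one F M]
    rfl
  rw [h1, h2, finrank_iInf_ker_bc]

end rep

/-- **descent of the multiplicities** -/
theorem Mu.of_bc {F : Type u} [Field F] {K : Type w} [Field K] [Algebra F K] {M : Type v} [AddCommGroup M] [Module F M]
    {ρ : Representation F ↥(alternatingGroup (Fin 6)) M} {τ : F} {a : ↥(alternatingGroup (Fin 6))}
    {n na nb m l : ℕ} (h : Mu (bcRep K ρ) (algebraMap F K τ) a n na nb m l) : Mu ρ τ a n na nb m l where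
  dim := by
    have h1 := h.dim
    rwa [Module.finrank_baseChange] at h1
  two x hx := by
    have h1 := h.two x hx
    rwa [bcRep_apply, ev_bc_one] at h1
  four x hx := by
    have h1 := h.four x hx
    rwa [bcRep_apply, ev_bc_one] at h1
  five x hx := by
    have h1 := h.five x hx
    rwa [bcRep_apply, ev_bc_one] at h1
  qu := by
    have h1 := h.qu
    rwa [bcRep_apply, qd_bc] at h1
  qv := by
    have h1 := h.qv
    have h2 : -1 - algebraMap F K τ = algebraMap F K (-1 - τ) := by
      rw [map_sub, map_neg, map_one]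
    rwa [h2, bcRep_apply, qd_bc] at h1
  press := by
    have h1 := h.press
    rwa [finrank_inv_bc] at h1

end Cfsg.Agent.R2.T1.N6L
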