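import Cfsg.Agent.R2.T1.N6L.MuK

/-!
# S5929, n = 6, p = 3: existence of the multiplicities (helper11)

* `exists_good` : an embedding `ι` of the field of order 9 such that `3a` is `V_2`;
* `exists_muK`.
-/

set_option autoImplicit false
set_option linter.unusedSectionVars false

namespace Cfsg.Agent.R2.T1.N6L

open Matrix Cfsg.Agent.H943.SL2Rel Cfsg.Agent.H943.SL2Mod Cfsg.Agent.H943.RepAdd Cfsg.Agent.R2.H28.SL2
open Cfsg.Agent.H179.SLC (IsSS fx mem_fx)
open Cfsg.Agent.H952.F4 (ev es)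
open Cfsg.Agent.R2.T1

universe u v w

/-- the field with nine elements -/
abbrev F9 : Type := GaloisField 3 2

noncomputable instance fintypeF9 : Fintype F9 := Fintype.ofFinite _

noncomputable instance decF9 : DecidableEq F9 := Classical.decEq _

theorem card_F9 : Fintype.card F9 = 9 := by
  rw [← Nat.card_eq_fintype_card, GaloisField.card 3 2 (by norm_num)]
  norm_num

theorem card_F9' : Fintype.card F9 = 3 ^ 2 := by rw [card_F9]; norm_num

theorem exists_iota (K : Type u) [Field K] [IsAlgClosed K] [CharP K 3] : Nonempty (F9 →+* K) := by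
  letI : Algebra (ZMod 3) K := ZMod.algebra K 3
  exact ⟨(IsAlgClosed.lift (R := ZMod 3) (S := F9) (M := K) : F9 →ₐ[ZMod 3] K).toRingHom⟩

/-- the Frobenius twist -/
theorem ss_frob {K : Type u} [Field K] [CharP K 3] {F : Type w} [Field F] (ι : F →+* K)
    {g : SpecialLinearGroup (Fin 2) F} {ζ : K} (hg : IsSS ι g ζ) : IsSS ((frobenius K 3).comp ι) g (ζ ^ 3) := by
  obtain ⟨v₁, v₂, h1, h2, hD⟩ := hg
  have key : ∀ (v : Fin 2 → K) (ξ : K), (g.1.map ι).mulVec v = ξ • v →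
      (g.1.map ((frobenius K 3).comp ι)).mulVec (fun i => v i ^ 3) = ξ ^ 3 • (fun i => v i ^ 3) := by
    intro v ξ h
    funext i
    have h3 := congrFun h i
    have h4 := congrArg (frobenius K 3) h3
    simp only [Matrix.mulVec, dotProduct, Fin.sum_univ_two, Matrix.map_apply, Pi.smul_apply, smul_eq_mul, map_add,
      map_mul] at h4 ⊢
    simpa [frobenius_def] using h4
  refine ⟨fun i => v₁ i ^ 3, fun i => v₂ i ^ 3, key _ _ h1, by rw [← inv_pow]; exact key _ _ h2, ?_⟩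
  have h5 : (v₁ 0 ^ 3 * v₂ 1 ^ 3 - v₁ 1 ^ 3 * v₂ 0 ^ 3 : K) = frobenius K 3 (v₁ 0 * v₂ 1 - v₁ 1 * v₂ 0) := by
    rw [map_sub, map_mul, map_mul]
    simp only [frobenius_def]
  rw [h5]
  exact (map_ne_zero _).2 hD

theorem tau_cases {K : Type u} [Field K] {ζ τ : K} (hζ : IsPrimitiveRoot ζ 5) (hτ : τ * τ + τ - 1 = 0) :
    τ = ζ + ζ⁻¹ ∨ τ = ζ ^ 2 + (ζ ^ 2)⁻¹ := by
  have hsum : ζ ^ 4 + ζ ^ 3 + ζ ^ 2 + ζ + 1 = 0 := by
    have h2 := hζ.geom_sum_eq_zero (by norm_num)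
    simp only [Finset.sum_range_succ, Finset.sum_range_zero, pow_zero, pow_one] at h2
    linear_combination h2
  have hz5 := hζ.pow_eq_one
  have hinv1 : ζ⁻¹ = ζ ^ 4 := inv_eq_of_mul_eq_one_left (by rw [← pow_succ]; exact hz5)
  have hinv2 : (ζ ^ 2)⁻¹ = ζ ^ 3 := inv_eq_of_mul_eq_one_left (by rw [← pow_add]; exact hz5)
  have h1 : (τ - (ζ + ζ⁻¹)) * (τ - (ζ ^ 2 + (ζ ^ 2)⁻¹)) = 0 := by
    rw [hinv1, hinv2]
    linear_combination hτ - τ * hsum + hsum + (ζ + ζ ^ 2 - 0) * hz5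
  rcases mul_eq_zero.1 h1 with h | h
  · exact Or.inl (sub_eq_zero.1 h)
  · exact Or.inr (sub_eq_zero.1 h)

section
variable {K : Type u} [Field K] [IsAlgClosed K] [CharP K 3]
  {π : SpecialLinearGroup (Fin 2) F9 →* ↥(alternatingGroup (Fin 6))}

/-- an embedding such that `3a` is `V_2` -/
theorem exists_good (hs : Function.Surjective π) (hk : ∀ g, π g = 1 ↔ g = 1 ∨ g = -1) {τ : K}
    (hτ : τ * τ + τ - 1 = 0) {a : ↥(alternatingGroup (Fin 6))} (ha : orderOf a = 5) :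
    ∃ (ι : F9 →+* K) (g : SpecialLinearGroup (Fin 2) F9) (ζ : K), π g = a ∧ IsSS ι g ζ ∧ IsPrimitiveRoot ζ 5 ∧
      ζ ^ 2 + (ζ ^ 2)⁻¹ = τ := by
  obtain ⟨ι⟩ := exists_iota K
  obtain ⟨g, ζ, hg, hss, hζ⟩ := lift5 ι card_F9 hs hk ha
  rcases tau_cases hζ hτ with h | h
  · refine ⟨(frobenius K 3).comp ι, g, ζ ^ 3, hg, ss_frob ι hss, hζ.pow_of_coprime 3 (by norm_num), ?_⟩
    have hz5 := hζ.pow_eq_one
    have h6 : (ζ ^ 3) ^ 2 = ζ := by
      rw [← pow_mul, show 3 * 2 = 5 + 1 by norm_num, pow_succ, hz5, one_mul]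
    rw [h6, h]
  · exact ⟨ι, g, ζ, hg, hss, hζ, h.symm⟩

end

/-- **the multiplicities over an algebraically closed field** -/
theorem exists_muK {K : Type u} [Field K] [IsAlgClosed K] [CharP K 3] {τ : K} (hτ : τ * τ + τ - 1 = 0)
    {a : ↥(alternatingGroup (Fin 6))} (ha : orderOf a = 5) {M : Type v} [AddCommGroup M] [Module K M]
    [FiniteDimensional K M] (ρ : Representation K ↥(alternatingGroup (Fin 6)) M) :
    ∃ n na nb m l, Mu ρ τ a n na nb m l := by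
  classical
  obtain ⟨π, hs, hk⟩ := exists_pi card_F9
  obtain ⟨ι, g, ζ, rfl, hss, hζ, rfl⟩ := exists_good hs hk hτ ha
  obtain ⟨n, hn⟩ := exists_isMult ι 3 card_F9' (MonoidHom.comp ρ π : Representation K _ M)
  exact ⟨_, _, _, _, _, (mu_of ι ρ card_F9 hs hk hn hss hζ).1⟩

end Cfsg.Agent.R2.T1.N6L
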