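import Cfsg.Agent.R2.T1.N6L.Bc2
import Cfsg.Agent.R2.T1.N6L.MuE

/-!
# S5929, n = 6, p = 3: the multiplicities over a finite field (helper14)

* `exists_mu` : the multiplicities of the composition factors of a representation of `A₆` over a finite field of
  characteristic 3 containing `F_9`;
* `exists_simple` : a simple submodule.
-/

set_option autoImplicit false
set_option linter.unusedSectionVars false

namespace Cfsg.Agent.R2.T1.N6L

open Matrix Module TensorProduct Cfsg.Agent.H943.SL2Rel Cfsg.Agent.H943.SL2Mod Cfsg.Agent.H943.RepAdd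
open Cfsg.Agent.R2.H28.SL2
open Cfsg.Agent.H179.SLC (IsSS fx mem_fx)
open Cfsg.Agent.H952.F4 (ev es)
open Cfsg.Agent.R2.T1

universe u v w

section
variable {F : Type u} [Field F]

theorem charP_three (h3 : (3 : F) = 0) : CharP F 3 := by
  have : Fact (Nat.Prime 3) := ⟨by norm_num⟩
  obtain ⟨p, hp⟩ := CharP.exists F
  have h1 : p ∣ 3 := (CharP.cast_eq_zero_iff F p 3).1 (by exact_mod_cast h3)
  rcases (Nat.dvd_prime (by norm_num)).1 h1 with h2 | h2
  · subst h2
    exact absurd ((CharP.cast_eq_zero_iff F 1 1).2 (one_dvd _)) (by rw [Nat.cast_one]; exact one_ne_zero)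
  · subst h2
    exact hp

/-- **the multiplicities** -/
theorem exists_mu (h3 : (3 : F) = 0) {τ : F} (hτ : τ * τ + τ - 1 = 0) {a : ↥(alternatingGroup (Fin 6))} (ha : orderOf a = 5)
    {M : Type v} [AddCommGroup M] [Module F M] [FiniteDimensional F M]
    (ρ : Representation F ↥(alternatingGroup (Fin 6)) M) : ∃ n na nb m l, Mu ρ τ a n na nb m l := by
  have hF3 := charP_three h3
  have hK : CharP (AlgebraicClosure F) 3 :=
    charP_of_injective_algebraMap (algebraMap F (AlgebraicClosure F)).injective 3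
  obtain ⟨n, na, nb, m, l, h⟩ := exists_muK (K := AlgebraicClosure F) (τ := algebraMap F (AlgebraicClosure F) τ)
    (by rw [← map_mul, ← map_add, ← map_one (algebraMap F (AlgebraicClosure F)), ← map_sub, hτ, map_zero]) ha
    (bcRep (AlgebraicClosure F) ρ)
  exact ⟨n, na, nb, m, l, h.of_bc⟩

/-- powers of `τ` -/
theorem tau_pow (h3 : (3 : F) = 0) {τ : F} (hτ : τ * τ + τ - 1 = 0) (n : ℕ) :
    (n % 2 = 0 → τ ^ 3 ^ n = τ) ∧ (n % 2 = 1 → τ ^ 3 ^ n = -1 - τ) := by
  have key : ∀ t : F, t * t + t - 1 = 0 → t ^ 3 = -1 - t := by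
    intro t ht
    linear_combination (t - 1) * ht + t * h3
  have hτ' : (-1 - τ) * (-1 - τ) + (-1 - τ) - 1 = 0 := by
    linear_combination hτ
  induction n with
  | zero => exact ⟨fun _ => by rw [pow_zero, pow_one], fun h => by omega⟩
  | succ n ih =>
    rw [pow_succ, pow_mul]
    refine ⟨fun h => ?_, fun h => ?_⟩
    · rw [ih.2 (by omega), key _ hτ']
      ring
    · rw [ih.1 (by omega), key _ hτ]

/-- the field contains `F_9` -/
theorem exists_iota_F [Finite F] (h3 : (3 : F) = 0) {τ : F} (hτ : τ * τ + τ - 1 = 0) : Nonempty (F9 →+* F) := by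
  have hF3 := charP_three h3
  have hK : CharP (AlgebraicClosure F) 3 :=
    charP_of_injective_algebraMap (algebraMap F (AlgebraicClosure F)).injective 3
  obtain ⟨ι⟩ := exists_iota (AlgebraicClosure F)
  -- the cardinality
  have hFt := Fintype.ofFinite F
  obtain ⟨n, -, hn⟩ := FiniteField.card F 3
  have hn2 : (n : ℕ) % 2 = 0 := by
    by_contra h
    have h1 := (tau_pow h3 hτ (n : ℕ)).2 (by omega)
    rw [← hn, FiniteField.pow_card] at h1
    have h4 : τ = 1 := by linear_combination (2 : F) * h1 - (τ + 1) * h3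
    rw [h4] at hτ
    exact one_ne_zero (α := F) (by linear_combination hτ)
  have hpow : ∀ y : F9, y ^ Nat.card F = y := by
    intro y
    obtain ⟨m, hm⟩ := Nat.dvd_of_mod_eq_zero hn2
    rw [Nat.card_eq_fintype_card, hn, hm, pow_mul, show (3 : ℕ) ^ 2 = Fintype.card F9 from card_F9'.symm]
    exact FiniteField.pow_card_pow m y
  have hex : ∀ y : F9, ∃ x : F, algebraMap F (AlgebraicClosure F) x = ι y := by
    intro y
    exact exists_of_pow_eq (algebraMap F (AlgebraicClosure F)) (by rw [← map_pow, hpow])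
  choose g hg using hex
  have hinj := (algebraMap F (AlgebraicClosure F)).injective
  exact ⟨{ toFun := g
           map_one' := hinj (by rw [hg, map_one, map_one])
           map_zero' := hinj (by rw [hg, map_zero, map_zero])
           map_mul' := fun x y => hinj (by rw [hg, map_mul, map_mul, hg, hg])
           map_add' := fun x y => hinj (by rw [hg, map_add, map_add, hg, hg]) }⟩

/-- **simple submodules** -/
theorem exists_simple [Finite F] (h3 : (3 : F) = 0) {τ : F} (hτ : τ * τ + τ - 1 = 0) {a : ↥(alternatingGroup (Fin 6))}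
    (ha : orderOf a = 5) {M : Type v} [AddCommGroup M] [Module F M] [FiniteDimensional F M] [Nontrivial M]
    (ρ : Representation F ↥(alternatingGroup (Fin 6)) M) :
    ∃ (W : Submodule F M) (hW : ∀ g, ∀ x ∈ W, ρ g x ∈ W), W ≠ ⊥ ∧
      (Mu (subRep ρ W hW) τ a 1 0 0 0 0 ∨ Mu (subRep ρ W hW) τ a 0 1 0 0 0 ∨ Mu (subRep ρ W hW) τ a 0 0 1 0 0 ∨
        Mu (subRep ρ W hW) τ a 0 0 0 1 0 ∨ Mu (subRep ρ W hW) τ a 0 0 0 0 1) := by
  classical
  have hF3 := charP_three h3
  have hK : CharP (AlgebraicClosure F) 3 :=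
    charP_of_injective_algebraMap (algebraMap F (AlgebraicClosure F)).injective 3
  obtain ⟨ι⟩ := exists_iota_F h3 hτ
  obtain ⟨π, hs, hk⟩ := exists_pi card_F9
  obtain ⟨b, W, hW, hW0, hb⟩ := exists_sub_isV ι (MonoidHom.comp ρ π : Representation F _ M) 3 card_F9'
  have hW' : ∀ g, ∀ x ∈ W, ρ g x ∈ W := by
    intro g x hx
    obtain ⟨y, rfl⟩ := hs g
    exact hW y x hx
  refine ⟨W, hW', hW0, ?_⟩
  have hbK := isV_bc ι (AlgebraicClosure F) (subRep (MonoidHom.comp ρ π : Representation F _ M) W hW) 3 card_F9' hb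
  have hbK' : IsV ((algebraMap F (AlgebraicClosure F)).comp ι) 3
      (MonoidHom.comp (bcRep (AlgebraicClosure F) (subRep ρ W hW')) π : Representation (AlgebraicClosure F) _ _) b := hbK
  obtain ⟨hb', φ, hφ⟩ := hbK'
  have hmult := isMult_rb ((algebraMap F (AlgebraicClosure F)).comp ι) 3 card_F9' hb'
    (MonoidHom.comp (bcRep (AlgebraicClosure F) (subRep ρ W hW')) π : Representation (AlgebraicClosure F) _ _) φ hφ
  obtain ⟨g, ζ, hg, hss, hζ⟩ := lift5 ((algebraMap F (AlgebraicClosure F)).comp ι) card_F9 hs hk ha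
  obtain ⟨m1, m2⟩ := mu_of _ (bcRep (AlgebraicClosure F) (subRep ρ W hW')) card_F9 hs hk hmult hss hζ
  rw [hg] at m1 m2
  have hτK : algebraMap F (AlgebraicClosure F) τ * algebraMap F (AlgebraicClosure F) τ +
      algebraMap F (AlgebraicClosure F) τ - 1 = 0 := by
    rw [← map_mul, ← map_add, ← map_one (algebraMap F (AlgebraicClosure F)), ← map_sub, hτ, map_zero]
  have hpar : b % 2 = 0 := by
    by_contra h
    have h1 := odd_zero ((algebraMap F (AlgebraicClosure F)).comp ι) (bcRep (AlgebraicClosure F) (subRep ρ W hW')) hk hmult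
      (b := b) (by omega)
    rw [Pi.single_eq_same] at h1
    exact one_ne_zero h1
  rw [card_F9] at hb'
  have hcases : b = 0 ∨ b = 2 ∨ b = 4 ∨ b = 6 ∨ b = 8 := by omega
  have key : Mu (bcRep (AlgebraicClosure F) (subRep ρ W hW')) (algebraMap F (AlgebraicClosure F) τ) a
      ((Pi.single b 1 : ℕ → ℕ) 0) ((Pi.single b 1 : ℕ → ℕ) 2) ((Pi.single b 1 : ℕ → ℕ) 6) ((Pi.single b 1 : ℕ → ℕ) 4)
      ((Pi.single b 1 : ℕ → ℕ) 8) ∨
      Mu (bcRep (AlgebraicClosure F) (subRep ρ W hW')) (algebraMap F (AlgebraicClosure F) τ) a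
      ((Pi.single b 1 : ℕ → ℕ) 0) ((Pi.single b 1 : ℕ → ℕ) 6) ((Pi.single b 1 : ℕ → ℕ) 2) ((Pi.single b 1 : ℕ → ℕ) 4)
      ((Pi.single b 1 : ℕ → ℕ) 8) := by
    rcases tau_cases hζ hτK with h | h
    · right
      rw [h]
      exact m2
    · left
      rw [h]
      exact m1
  rcases key with h | h
  · have h' := h.of_bc
    rcases hcases with rfl | rfl | rfl | rfl | rfl
    · exact Or.inl h'
    · exact Or.inr (Or.inl h')
    · exact Or.inr (Or.inr (Or.inr (Or.inl h')))
    · exact Or.inr (Or.inr (Or.inl h'))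
    · exact Or.inr (Or.inr (Or.inr (Or.inr h')))
  · have h' := h.of_bc
    rcases hcases with rfl | rfl | rfl | rfl | rfl
    · exact Or.inl h'
    · exact Or.inr (Or.inr (Or.inl h'))
    · exact Or.inr (Or.inr (Or.inr (Or.inl h')))
    · exact Or.inr (Or.inl h')
    · exact Or.inr (Or.inr (Or.inr (Or.inr h')))

end

end Cfsg.Agent.R2.T1.N6L
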