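import Cfsg.Agent.R2.T1.N6L.Pats
import Cfsg.Agent.R2.T1.N6L.Pr5
import Cfsg.Agent.R2.T1.N6L.Bc3
import Cfsg.Agent.R2.T1.Inf.Cnt

/-!
# S5929, n = 6, p = 3: C3 over a finite field (helper11)

* `aw_of_bc` : descent of highest weight vectors;
* `exists_goodF` : a good embedding of the field of order 9 into `F`;
* `no_q1` : the pattern `1² 3a⁴ 3b⁶ 4⁶` does not occur.
-/

set_option autoImplicit false
set_option linter.unusedSectionVars false

namespace Cfsg.Agent.R2.T1.N6L

open Cfsg Cfsg.Lie Module TensorProduct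
open Matrix Cfsg.Agent.H943.SL2Rel Cfsg.Agent.H943.SL2Mod Cfsg.Agent.H943.RepAdd Cfsg.Agent.R2.H28.SL2
open Cfsg.Agent.H179.SLC (IsSS fx mem_fx)
open Cfsg.Agent.H943.E7V.Block (D1 rho)
open Cfsg.Agent.H952.F4 (ev es MaxAlt)
open Cfsg.Agent.R2.T1

universe u v w x

section des
variable {k : Type u} [Field k] {R : Type w} [Field R] [Fintype R] [DecidableEq R] (ι : R →+* k)
variable {K : Type x} [Field K] [Algebra k K]
variable {V : Type v} [AddCommGroup V] [Module k V] (σ : Representation k (SpecialLinearGroup (Fin 2) R) V)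

/-- **descent of highest weight vectors** -/
theorem aw_of_bc [FiniteDimensional k V] {c e : ℕ} {z : K ⊗[k] V}
    (hz : z ∈ Aw ((algebraMap k K).comp ι) (bcRep K σ) c e) (hz0 : z ≠ 0) : ∃ y ∈ Aw ι σ c e, y ≠ 0 := by
  classical
  let f : R ⊕ (Rˣ ⊕ Unit) → V →ₗ[k] V :=
    Sum.elim (fun t => σ (u t) - 1) (Sum.elim (fun s => σ (h s) - ι s ^ c • (1 : Module.End k V))
      (fun _ => Dm ι σ e ∘ₗ σ w))
  have hne : (⨅ j, LinearMap.ker ((f j).baseChange K)) ≠ ⊥ := by
    intro h0
    apply hz0
    have h1 : z ∈ ⨅ j, LinearMap.ker ((f j).baseChange K) := by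
      rw [Submodule.mem_iInf]
      intro j
      rw [LinearMap.mem_ker]
      rcases j with t | s | _
      · show (LinearMap.baseChange K (σ (u t) - 1)) z = 0
        rw [LinearMap.baseChange_sub, LinearMap.baseChange_one k V, LinearMap.sub_apply, sub_eq_zero]
        exact hz.1.1 t
      · show (LinearMap.baseChange K (σ (h s) - ι s ^ c • (1 : Module.End k V))) z = 0
        rw [LinearMap.baseChange_sub, LinearMap.baseChange_smul, LinearMap.baseChange_one k V, LinearMap.sub_apply,
          sub_eq_zero, LinearMap.smul_apply, Module.End.one_apply]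
        have h2 := hz.1.2 s
        rw [RingHom.comp_apply, ← map_pow (algebraMap k K)] at h2
        exact h2.trans (algebraMap_smul K _ _)
      · show (LinearMap.baseChange K (Dm ι σ e ∘ₗ σ w)) z = 0
        rw [LinearMap.baseChange_comp, ← Dm_bc, LinearMap.comp_apply]
        exact hz.2
    rw [h0, Submodule.mem_bot] at h1
    exact h1
  obtain ⟨y, hy, hy0⟩ := Submodule.exists_mem_ne_zero_of_ne_bot (iInf_ne_bot_of_bc hne)
  rw [Submodule.mem_iInf] at hy
  refine ⟨y, ⟨⟨fun t => ?_, fun s => ?_⟩, ?_⟩, hy0⟩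
  · have h2 : (σ (u t) - 1) y = 0 := hy (Sum.inl t)
    rw [LinearMap.sub_apply, sub_eq_zero] at h2
    exact h2
  · have h2 : (σ (h s) - ι s ^ c • (1 : Module.End k V)) y = 0 := hy (Sum.inr (Sum.inl s))
    rw [LinearMap.sub_apply, sub_eq_zero] at h2
    exact h2
  · exact hy (Sum.inr (Sum.inr ()))

end des

section
variable {F : Type u} [Field F] (ψ : ↥(alternatingGroup (Fin 6)) →* Gh F)

/-- the module over the closure is the base change -/
theorem vk_bc (g : ↥(alternatingGroup (Fin 6))) (z : AlgebraicClosure F ⊗[F] (D1 → F)) :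
    TensorProduct.piScalarRight F (AlgebraicClosure F) (AlgebraicClosure F) D1
        (bcRep (AlgebraicClosure F) (MonoidHom.comp (V F) ψ : Representation F _ _) g z) =
      VK ψ g (TensorProduct.piScalarRight F (AlgebraicClosure F) (AlgebraicClosure F) D1 z) := by
  induction z using TensorProduct.induction_on with
  | zero => rw [map_zero, map_zero, map_zero]
  | add y z hy hz => rw [map_add, map_add, hy, hz, map_add, map_add]
  | tmul a x =>
    have key : ∀ y : D1 → F, TensorProduct.piScalarRight F (AlgebraicClosure F) (AlgebraicClosure F) D1 (a ⊗ₜ y) =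
        a • fun i => algebraMap F (AlgebraicClosure F) (y i) := by
      intro y
      rw [TensorProduct.piScalarRight_apply, TensorProduct.piScalarRightHom_tmul]
      funext i
      rw [Pi.smul_apply, Algebra.smul_def, smul_eq_mul, mul_comm]
    rw [bcRep_tmul, key, key, map_smul, VK_apply, V_emb]
    rfl

variable {π : SpecialLinearGroup (Fin 2) F9 →* ↥(alternatingGroup (Fin 6))}

/-- highest weight vectors over `F` -/
theorem aw_vk (ι : F9 →+* F) {c e : ℕ} {y : D1 → AlgebraicClosure F}
    (hy : y ∈ Aw ((algebraMap F (AlgebraicClosure F)).comp ι)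
      (MonoidHom.comp (VK ψ) π : Representation (AlgebraicClosure F) _ _) c e) (hy0 : y ≠ 0) :
    ∃ z ∈ Aw ι (MonoidHom.comp (MonoidHom.comp (V F) ψ : Representation F _ _) π : Representation F _ _) c e, z ≠ 0 := by
  refine aw_of_bc (K := AlgebraicClosure F) ι
    (MonoidHom.comp (MonoidHom.comp (V F) ψ : Representation F _ _) π : Representation F _ _)
    (z := (TensorProduct.piScalarRight F (AlgebraicClosure F) (AlgebraicClosure F) D1).symm y) ?_ ?_
  · refine Aw_map _ _ _ (TensorProduct.piScalarRight F (AlgebraicClosure F) (AlgebraicClosure F) D1).symm.toLinearMap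
      (fun g x => ?_) hy
    rw [LinearEquiv.coe_coe, LinearEquiv.symm_apply_eq]
    show VK ψ (π g) x = _
    conv_lhs => rw [← LinearEquiv.apply_symm_apply (TensorProduct.piScalarRight F (AlgebraicClosure F)
      (AlgebraicClosure F) D1) x]
    rw [← vk_bc]
    rfl
  · intro h0
    apply hy0
    rw [← LinearEquiv.apply_symm_apply (TensorProduct.piScalarRight F (AlgebraicClosure F)
      (AlgebraicClosure F) D1) y, h0, map_zero]

/-- fixed vectors over `F` -/
theorem inv_vk : finrank (AlgebraicClosure F) ↥(Representation.invariants (VK ψ)) =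
    finrank F ↥(Representation.invariants (MonoidHom.comp (V F) ψ : Representation F _ _)) := by
  rw [← finrank_inv_bc (AlgebraicClosure F) (MonoidHom.comp (V F) ψ : Representation F _ _)]
  refine (LinearEquiv.finrank_eq (LinearEquiv.ofSubmodules
    (TensorProduct.piScalarRight F (AlgebraicClosure F) (AlgebraicClosure F) D1)
    (Representation.invariants (bcRep (AlgebraicClosure F) (MonoidHom.comp (V F) ψ : Representation F _ _)))
    (Representation.invariants (VK ψ)) ?_)).symm
  ext y
  rw [Submodule.mem_map, Representation.mem_invariants]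
  constructor
  · rintro ⟨z, hz, rfl⟩ g
    rw [Representation.mem_invariants] at hz
    show VK ψ g (TensorProduct.piScalarRight F (AlgebraicClosure F) (AlgebraicClosure F) D1 z) = _
    rw [← vk_bc, hz g]
    rfl
  · intro hy
    refine ⟨(TensorProduct.piScalarRight F (AlgebraicClosure F) (AlgebraicClosure F) D1).symm y, ?_,
      LinearEquiv.apply_symm_apply _ _⟩
    rw [Representation.mem_invariants]
    intro g
    apply (TensorProduct.piScalarRight F (AlgebraicClosure F) (AlgebraicClosure F) D1).injective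
    rw [vk_bc, LinearEquiv.apply_symm_apply, hy g]

end

/-- a good embedding into `F` -/
theorem exists_goodF {F : Type u} [Field F] [Finite F] (h3 : (3 : F) = 0)
    {π : SpecialLinearGroup (Fin 2) F9 →* ↥(alternatingGroup (Fin 6))} (hs : Function.Surjective π)
    (hk : ∀ g, π g = 1 ↔ g = 1 ∨ g = -1) {τ : F} (hτ : τ * τ + τ - 1 = 0)
    {a : ↥(alternatingGroup (Fin 6))} (ha : orderOf a = 5) :
    ∃ (ι : F9 →+* F) (g : SpecialLinearGroup (Fin 2) F9) (ζ : AlgebraicClosure F), π g = a ∧
      IsSS ((algebraMap F (AlgebraicClosure F)).comp ι) g ζ ∧ IsPrimitiveRoot ζ 5 ∧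
      ζ ^ 2 + (ζ ^ 2)⁻¹ = algebraMap F (AlgebraicClosure F) τ := by
  have hF3 := charP_three h3
  have hK3 : CharP (AlgebraicClosure F) 3 :=
    charP_of_injective_algebraMap (algebraMap F (AlgebraicClosure F)).injective 3
  obtain ⟨ι⟩ := exists_iota_F h3 hτ
  have hτK : algebraMap F (AlgebraicClosure F) τ * algebraMap F (AlgebraicClosure F) τ +
      algebraMap F (AlgebraicClosure F) τ - 1 = 0 := by
    rw [← map_mul, ← map_add, ← map_one (algebraMap F (AlgebraicClosure F)), ← map_sub, hτ, map_zero]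
  obtain ⟨g, ζ, hg, hss, hζ⟩ := lift5 ((algebraMap F (AlgebraicClosure F)).comp ι) card_F9 hs hk ha
  rcases tau_cases hζ hτK with h | h
  · refine ⟨(frobenius F 3).comp ι, g, ζ ^ 3, hg, ?_, hζ.pow_of_coprime 3 (by norm_num), ?_⟩
    · have h1 := ss_frob _ hss
      have h2 : (frobenius (AlgebraicClosure F) 3).comp ((algebraMap F (AlgebraicClosure F)).comp ι) =
          (algebraMap F (AlgebraicClosure F)).comp ((frobenius F 3).comp ι) := by
        refine RingHom.ext fun x => ?_
        simp only [RingHom.comp_apply, frobenius_def, map_pow]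
      rw [h2] at h1
      exact h1
    · have hz5 := hζ.pow_eq_one
      have h6 : (ζ ^ 3) ^ 2 = ζ := by
        rw [← pow_mul, show 3 * 2 = 5 + 1 by norm_num, pow_succ, hz5, one_mul]
      rw [h6, h]
  · exact ⟨ι, g, ζ, hg, hss, hζ, h.symm⟩

section
variable {F : Type u} [Field F] [Finite F] {H : Subgroup ↥(chevE7.group F)}
  {φ : ↥(alternatingGroup (Fin 6)) →* ↥(chevE7.group F)} {ψ : ↥(alternatingGroup (Fin 6)) →* Gh F}

/-- stable subspaces of dimension 3 -/
theorem three_of_aw (h3 : (3 : F) = 0) {π : SpecialLinearGroup (Fin 2) F9 →* ↥(alternatingGroup (Fin 6))}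
    (hs : Function.Surjective π) (ι : F9 →+* F) {c e : ℕ} (hce : Ce c e)
    (hc3 : ((Finset.range (c + 1)).filter fun m => ¬ 3 ∣ c.choose m).card = 3)
    {z : D1 → F} (hz : z ∈ Aw ι (MonoidHom.comp (MonoidHom.comp (V F) ψ : Representation F _ _) π :
      Representation F _ _) c e) (hz0 : z ≠ 0) :
    ∃ U : Submodule F (D1 → F), (∀ g, ∀ x ∈ U, V F (ψ g) x ∈ U) ∧ finrank F U = 3 := by
  classical
  have hF3 := charP_three h3
  obtain ⟨Z, hZ, hV, -⟩ := inSoc_of_Aw ι card_F9' _ hce hz hz0
  refine ⟨Z, fun g x hx => ?_, ?_⟩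
  · obtain ⟨y, rfl⟩ := hs g
    exact hZ y x hx
  · obtain ⟨m, -, -, -, -, -, hmf, -⟩ := hV.hw2
    rw [hmf]
    have hB : Bf F c = (Finset.range (c + 1)).filter fun m => ¬ 3 ∣ c.choose m := by
      unfold Bf
      refine Finset.filter_congr fun m _ => ?_
      rw [Ne, CharP.cast_eq_zero_iff F 3]
    rw [hB, hc3]

/-- **C3** : the pattern `1² 3a⁴ 3b⁶ 4⁶` does not occur -/
theorem no_q1 (h3 : (3 : F) = 0) (hM : MaxAlt H 6 φ) (hL : Lift φ ψ) {τ : F} {a b : ↥(alternatingGroup (Fin 6))}
    (hd : Dat ψ τ a b 24 12 12 10 12)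
    (hno : ∀ U : Submodule F (D1 → F), (∀ g, ∀ x ∈ U, V F (ψ g) x ∈ U) → finrank F U = 3 → False) : False := by
  classical
  have hF3 := charP_three h3
  have hK3 : CharP (AlgebraicClosure F) 3 :=
    charP_of_injective_algebraMap (algebraMap F (AlgebraicClosure F)).injective 3
  obtain ⟨π, hs, hk⟩ := exists_pi card_F9
  obtain ⟨ι, g, ζ, hg, hss, hζ, hζτ⟩ := exists_goodF h3 hs hk hd.hτ hd.oa
  have H := isMult_cf ((algebraMap F (AlgebraicClosure F)).comp ι) 3 card_F9'
    (MonoidHom.comp (VK ψ) π : Representation (AlgebraicClosure F) _ _)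
  obtain ⟨n, hn⟩ : ∃ n : ℕ → ℕ, n = fun c =>
      (Cfsg.Agent.R2.H28.SL2.cf (Sy.{u, u, 0} ((algebraMap F (AlgebraicClosure F)).comp ι) 3)
        (MonoidHom.comp (VK ψ) π : Representation (AlgebraicClosure F) _ _)).count c := ⟨_, rfl⟩
  rw [← hn] at H
  have hMu := (mu_of ((algebraMap F (AlgebraicClosure F)).comp ι) (VK ψ) card_F9 hs hk H hss hζ).1
  rw [hg, hζτ] at hMu
  have hbb : orderOf (b * b) = 2 := by
    rw [← pow_two, orderOf_pow, hd.ob]
    decide
  have h2 := hMu.two _ hbb
  have h4 := hMu.four b hd.ob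
  have h5 := hMu.five a hd.oa
  have hqu := hMu.qu
  have hqv := hMu.qv
  have hdim := hMu.dim
  rw [VK_apply, ev_V_one] at h2 h4 h5
  rw [hd.two] at h2
  rw [hd.four] at h4
  rw [hd.five] at h5
  rw [VK_apply, ker_qd_V, hd.qu] at hqu
  have hτ' : (-1 - algebraMap F (AlgebraicClosure F) τ) = algebraMap F (AlgebraicClosure F) (-1 - τ) := by
    rw [map_sub, map_neg, map_one]
  rw [VK_apply, hτ', ker_qd_V, hd.qv] at hqv
  have hd56 : finrank (AlgebraicClosure F) (D1 → AlgebraicClosure F) = 56 := by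
    rw [Module.finrank_fintype_fun_eq_card]
    decide +kernel
  rw [hd56] at hdim
  have hnt : Nontrivial (D1 → AlgebraicClosure F) :=
    Module.nontrivial_of_finrank_pos (R := AlgebraicClosure F) (by rw [hd56]; norm_num)
  refine no_self ((algebraMap F (AlgebraicClosure F)).comp ι) card_F9' (dulVK ψ (π := π)) (fun c hc => ?_) ?_ ?_ ?_ ?_
  · have h0 : n c ≠ 0 := by
      rw [hn]
      exact Multiset.count_ne_zero.2 hc
    have h9 := H.supp c h0
    have hodd : c % 2 = 0 := by
      by_contra hne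
      exact h0 (odd_zero _ (VK ψ) hk H (b := c) (by omega))
    have h8 : c ≠ 8 := by
      rintro rfl
      omega
    norm_num at h9
    omega
  · rintro ⟨X, hX, hq, θ, hθ⟩
    have hnt : Nontrivial X := (show IsV _ 3 (subRep _ X hX) 0 from ⟨hq, θ, hθ⟩).irr.1
    obtain ⟨x, hx⟩ := exists_ne (0 : X)
    apply hx
    apply Subtype.ext
    have hfix : ∀ g, VK ψ g (x : D1 → AlgebraicClosure F) = x := by
      intro g
      obtain ⟨y, rfl⟩ := hs g
      have h1 := hθ y (θ.symm x)
      rw [rb_zero _ 3 rfl, θ.apply_symm_apply] at h1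
      exact (congrArg Subtype.val h1).symm
    have h6 : finrank (AlgebraicClosure F) ↥(Representation.invariants (VK ψ)) = 0 := by
      rw [inv_vk, no_fixed hM (by norm_num) (by norm_num) hL, finrank_bot]
    have h7 := Submodule.finrank_eq_zero.1 h6
    have h8 : (x : D1 → AlgebraicClosure F) ∈ Representation.invariants (VK ψ) := by
      rw [Representation.mem_invariants]
      exact hfix
    rw [h7, Submodule.mem_bot] at h8
    exact h8
  · rintro ⟨X, hX, hb⟩
    obtain ⟨m, hm0, hm⟩ := hw_Aw _ card_F9' (subRep _ X hX) ce2 hb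
    obtain ⟨z, hz, hz0⟩ := aw_vk ψ ι (Aw_map _ (subRep _ X hX) _ X.subtype (fun g x => rfl) hm)
      (fun h0 => hm0 (Subtype.ext h0))
    obtain ⟨U, hU, hU3⟩ := three_of_aw h3 hs ι ce2 (by decide) hz hz0
    exact hno U hU hU3
  · intro x hx
    by_contra hx0
    obtain ⟨z, hz, hz0⟩ := aw_vk ψ ι hx hx0
    obtain ⟨U, hU, hU3⟩ := three_of_aw h3 hs ι ce6 (by decide) hz hz0
    exact hno U hU hU3
  · have h6 : n 4 ≤ n 6 := by omega
    rw [hn] at h6
    exact h6

end

end Cfsg.Agent.R2.T1.N6L
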