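import Cfsg.Agent.R2.T1.Inf.PatF

/-!
# S5929, n = 6, p = 3, lift: the format of the patterns (helper11)

`Dat ψ τ a b d2 d4 d5 u v` : `a`, `b` are elements of order 5, 4 of `A₆`, `τ ^ 2 + τ = 1` (so `9` divides a power of `|F|`),
the dimensions of the fixed spaces of `b ^ 2`, `b`, `a` on the module of degree 56 are `d2`, `d4`, `d5`, the eigenvalues
`ζ`, `ζ⁻¹` with `ζ + ζ⁻¹ = τ` of `a` have the multiplicity `u`, the other two (`ζ + ζ⁻¹ = -1 - τ`) the multiplicity `v`.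

`Q1 = Dat ψ τ a b 24 12 12 10 12` : composition factors `1² 3a⁴ 3b⁶ 4⁶`;
`Q3 = Dat ψ τ a b 32 12 12 12 10` : composition factors `1¹⁰ 3a² 4¹⁰`.
-/

set_option autoImplicit false

namespace Cfsg.Agent.R2.T1.N6L

open Cfsg Cfsg.Lie Module
open Cfsg.Agent.H943.E7V.Block (D1 rho)
open Cfsg.Agent.H952.F4 (ev es MaxAlt)
open Cfsg.Agent.R2.T1

universe u

/-- the dimensions of the fixed spaces and of the eigenspaces -/
structure Dat {F : Type u} [Field F] (ψ : ↥(alternatingGroup (Fin 6)) →* Gh F) (τ : F) (a b : ↥(alternatingGroup (Fin 6)))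
    (d2 d4 d5 u v : ℕ) : Prop where
  oa : orderOf a = 5
  ob : orderOf b = 4
  hτ : τ * τ + τ - 1 = 0
  two : ev (V F (ψ (b * b))) 1 = d2
  four : ev (V F (ψ b)) 1 = d4
  five : ev (V F (ψ a)) 1 = d5
  qu : finrank F ↥(LinearMap.ker (Five.qd τ (V F (ψ a)))) = 2 * u
  qv : finrank F ↥(LinearMap.ker (Five.qd (-1 - τ) (V F (ψ a)))) = 2 * v

end Cfsg.Agent.R2.T1.N6L
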