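import Cfsg.Agent.R2.H28.SL2.ExtY
import Cfsg.Agent.R2.H28.SL2.SqTab

/-!
# S5929: symplectic modules for `PSL(2, q)` (helper11)

`even_cf` : the composition factors of a module of `SL(2, q)`, `q` odd, with trivial action of `-1` and with an invariant
nondegenerate alternating form have even multiplicities.
-/

set_option autoImplicit false
set_option linter.unusedSectionVars false

namespace Cfsg.Agent.R2.T1.N6L

open Matrix Cfsg.Agent.H943.SL2Rel Cfsg.Agent.H943.SL2Mod Cfsg.Agent.H943.RepAdd Cfsg.Agent.R2.H28.SL2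

universe u v w

variable {k : Type u} [Field k] [DecidableEq k] {F : Type w} [Field F] [Fintype F] [DecidableEq F] (ι : F →+* k)
variable (p : ℕ) [Fact p.Prime] [CharP k p] [CharP F p] [IsAlgClosed k]

section
variable {V : Type v} [AddCommGroup V] [Module k V] [FiniteDimensional k V]
  {ρ : Representation k (SpecialLinearGroup (Fin 2) F) V} {B : V →ₗ[k] V →ₗ[k] k}

/-- invariant submodules between `W` and `Y`, `Y / W` irreducible -/
theorem between {W : Submodule k V} (hW : ∀ g, ∀ x ∈ W, ρ g x ∈ W) {Z : Submodule k (V ⧸ W)}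
    (hZ : ∀ g, ∀ x ∈ Z, quotRep ρ W hW g x ∈ Z) (hirr : Irrd (subRep (quotRep ρ W hW) Z hZ)) {S : Submodule k V}
    (hS : ∀ g, ∀ x ∈ S, ρ g x ∈ S) (hWS : W ≤ S) (hne : ∃ x ∈ S, x ∉ W ∧ W.mkQ x ∈ Z) : Z.comap W.mkQ ≤ S := by
  rcases hirr.2 ((S.map W.mkQ).comap Z.subtype) (by
    rintro g x ⟨y, hy, hxy⟩
    refine ⟨ρ g y, hS g y hy, ?_⟩
    rw [← quotRep_mk ρ W hW, hxy]
    rfl) with h | h
  · exfalso
    obtain ⟨x, hx, hxW, hxZ⟩ := hne
    have h1 : (⟨W.mkQ x, hxZ⟩ : Z) ∈ (S.map W.mkQ).comap Z.subtype := ⟨x, hx, rfl⟩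
    rw [h, Submodule.mem_bot] at h1
    exact hxW ((Submodule.Quotient.mk_eq_zero W).1 (congrArg Subtype.val h1))
  · intro y hy
    have h1 : (⟨W.mkQ y, hy⟩ : Z) ∈ (S.map W.mkQ).comap Z.subtype := by rw [h]; trivial
    obtain ⟨z, hz, hzy⟩ := h1
    have h2 : y - z ∈ W := by
      apply (Submodule.Quotient.mk_eq_zero W).1
      rw [← Submodule.mkQ_apply, map_sub, sub_eq_zero]
      exact hzy.symm
    have h3 : y = z + (y - z) := by abel
    rw [h3]
    exact S.add_mem hz (hWS h2)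

include ι p in
/-- a totally isotropic submodule which is not its own orthogonal is not maximal -/
theorem step_iso (h2 : (2 : k) ≠ 0) (hcen : ρ (h (-1)) = 1) (D : Dul ρ ρ B) (halt : ∀ x, B x x = 0) {W : Submodule k V}
    (hW : ∀ g, ∀ x ∈ W, ρ g x ∈ W) (hiso : W ≤ orth B W) (hne : ¬ orth B W ≤ W) :
    ∃ Y : Submodule k V, (∀ g, ∀ x ∈ Y, ρ g x ∈ Y) ∧ Y ≤ orth B Y ∧ W < Y := by
  have hsw : ∀ x y, B x y = - B y x := by
    intro x y
    have h1 := halt (x + y)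
    rw [map_add, map_add, LinearMap.add_apply, LinearMap.add_apply, halt, halt, zero_add, add_zero] at h1
    exact eq_neg_of_add_eq_zero_right h1
  obtain ⟨N, hN⟩ : ∃ N, N = (orth B W).map W.mkQ := ⟨_, rfl⟩
  have hNi : ∀ g, ∀ x ∈ N, quotRep ρ W hW g x ∈ N := by
    rw [hN]
    rintro g _ ⟨x, hx, rfl⟩
    exact ⟨_, D.orth_inv hW g x hx, rfl⟩
  have hN0 : N ≠ ⊥ := by
    intro h0
    apply hne
    intro x hx
    have h1 : W.mkQ x ∈ N := by rw [hN]; exact ⟨x, hx, rfl⟩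
    rw [h0, Submodule.mem_bot] at h1
    exact (Submodule.Quotient.mk_eq_zero W).1 h1
  obtain ⟨c, ⟨X, hX, hc⟩, -⟩ := exists_inSoc_sub ι p hNi hN0
  obtain ⟨hZ, e, he⟩ := eqv_map (subRep (quotRep ρ W hW) N hNi) (quotRep ρ W hW) N.subtype (fun g x => rfl)
    N.injective_subtype X hX
  obtain ⟨Z, hZdef⟩ : ∃ Z, Z = X.map N.subtype := ⟨_, rfl⟩
  have hZc : IsV ι p (subRep (quotRep ρ W hW) (X.map N.subtype) hZ) c := IsV.iso ι p e he hc
  have hZN : X.map N.subtype ≤ N := Submodule.map_subtype_le _ _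
  obtain ⟨mb, hm0, hmu, hmh, -, -⟩ := IsV.hw ι p hZc
  obtain ⟨⟨m, hmZ⟩, rfl⟩ : ∃ y : X.map N.subtype, y = mb := ⟨mb, rfl⟩
  have hmN := hZN hmZ
  rw [hN] at hmN
  obtain ⟨m', hm'W, rfl⟩ := hmN
  have hmW : m' ∉ W := by
    intro h0
    apply hm0
    apply Subtype.ext
    exact (Submodule.Quotient.mk_eq_zero W).2 h0
  -- the submodule `Y`
  set Y := (X.map N.subtype).comap W.mkQ with hY
  have hYi : ∀ g, ∀ x ∈ Y, ρ g x ∈ Y := by
    intro g x hx
    show W.mkQ (ρ g x) ∈ X.map N.subtype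
    rw [← quotRep_mk ρ W hW]
    exact hZ g _ hx
  have hYW : Y ≤ orth B W := by
    intro y hy
    have h1 := hZN hy
    rw [hN] at h1
    obtain ⟨z, hz, hzy⟩ := h1
    have h2 : y - z ∈ W := by
      apply (Submodule.Quotient.mk_eq_zero W).1
      rw [← Submodule.mkQ_apply, map_sub, sub_eq_zero]
      exact hzy.symm
    have h3 : y = z + (y - z) := by abel
    rw [h3]
    exact (orth B W).add_mem hz (hiso h2)
  have hWY : W ≤ Y := by
    intro x hx
    show W.mkQ x ∈ X.map N.subtype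
    rw [(Submodule.Quotient.mk_eq_zero W).2 hx |> fun h => (show W.mkQ x = 0 from h)]
    exact Submodule.zero_mem _
  have hmod : ∀ y ∈ orth B W, ∀ x x', x' - x ∈ W → B x' y = B x y := by
    intro y hy x x' h1
    have h3 := hy _ h1
    rw [map_sub, LinearMap.sub_apply, sub_eq_zero] at h3
    exact h3
  have hmod' : ∀ y ∈ orth B W, ∀ x x', x' - x ∈ W → B y x' = B y x := by
    intro y hy x x' h1
    rw [hsw, hmod y hy x x' h1, ← hsw]
  have hu : ∀ t, ρ (u t) m' - m' ∈ W := by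
    intro t
    apply (Submodule.Quotient.mk_eq_zero W).1
    have h1 : quotRep ρ W hW (u t) (W.mkQ m') = W.mkQ m' := congrArg Subtype.val (hmu t)
    rw [← Submodule.mkQ_apply, map_sub, ← quotRep_mk ρ W hW, h1, sub_self]
  have hh : ∀ a : Fˣ, ρ (h a) m' - ι a ^ c • m' ∈ W := by
    intro a
    apply (Submodule.Quotient.mk_eq_zero W).1
    have h1 : quotRep ρ W hW (h a) (W.mkQ m') = ι a ^ c • W.mkQ m' := congrArg Subtype.val (hmh a)
    rw [← Submodule.mkQ_apply, map_sub, map_smul, ← quotRep_mk ρ W hW, h1, sub_self]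
  -- `B(m, w m) = 0`
  have hww : ρ w (ρ w m') = m' := by rw [apply_mul, w_w, hcen]; rfl
  have hw0 : B m' (ρ w m') = 0 := by
    have h1 := D.inv w m' (ρ w m')
    rw [hww, hsw] at h1
    have h3 : (2 : k) * B m' (ρ w m') = 0 := by linear_combination (-1 : k) * h1
    exact (mul_eq_zero.1 h3).resolve_left h2
  have hwm : ρ w m' ∈ orth B W := D.orth_inv hW _ _ hm'W
  have hu0 : ∀ s, B m' (ρ (u s) (ρ w m')) = 0 := by
    intro s
    have h1 := D.inv (u s)⁻¹ m' (ρ (u s) (ρ w m'))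
    rw [← Module.End.mul_apply, ← map_mul, inv_mul_cancel, map_one, Module.End.one_apply] at h1
    rw [← h1, ← u_neg, hmod _ hwm _ _ (hu (-s)), hw0]
  have hg0 : ∀ g, B m' (ρ g m') = 0 := by
    intro g
    rcases bruhat g with ⟨a, t, rfl⟩ | ⟨s, a, t, rfl⟩
    · rw [map_mul]
      show B m' (ρ (h a) (ρ (u t) m')) = 0
      have h1 : ρ (h a) (ρ (u t) m') - ι a ^ c • m' ∈ W := by
        have h3 : ρ (h a) (ρ (u t) m') - ι a ^ c • m' =
            ρ (h a) (ρ (u t) m' - m') + (ρ (h a) m' - ι a ^ c • m') := by rw [map_sub]; abel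
        rw [h3]
        exact W.add_mem (hW _ _ (hu t)) (hh a)
      rw [hmod' m' hm'W _ _ h1, map_smul, halt, smul_zero]
    · rw [map_mul, map_mul, map_mul]
      show B m' (ρ (u s) (ρ (h a) (ρ w (ρ (u t) m')))) = 0
      have h1 : ρ (u s) (ρ (h a) (ρ w (ρ (u t) m'))) - ι ((a⁻¹ : Fˣ) : F) ^ c • ρ (u s) (ρ w m') ∈ W := by
        have h3 : ρ (h a) (ρ w m') = ρ w (ρ (h a⁻¹) m') := by rw [apply_mul, h_w, ← apply_mul]
        have h4 : ρ (u s) (ρ (h a) (ρ w (ρ (u t) m'))) - ι ((a⁻¹ : Fˣ) : F) ^ c • ρ (u s) (ρ w m') =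
            ρ (u s) (ρ (h a) (ρ w (ρ (u t) m' - m'))) +
              ρ (u s) (ρ w (ρ (h a⁻¹) m' - ι ((a⁻¹ : Fˣ) : F) ^ c • m')) := by
          simp only [map_sub, map_smul, h3]
          abel
        rw [h4]
        exact W.add_mem (hW _ _ (hW _ _ (hW _ _ (hu t)))) (hW _ _ (hW _ _ (hh _)))
      rw [hmod' m' hm'W _ _ h1, map_smul, hu0, smul_zero]
  have hg1 : ∀ g, B (ρ g m') m' = 0 := fun g => by rw [hsw, hg0, neg_zero]
  -- the first application
  let S₁ : Submodule k V :=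
    { carrier := {y | y ∈ orth B W ∧ ∀ g, B (ρ g m') y = 0}
      zero_mem' := ⟨(orth B W).zero_mem, fun g => map_zero _⟩
      add_mem' := fun {x y} hx hy => ⟨(orth B W).add_mem hx.1 hy.1, fun g => by rw [map_add, hx.2, hy.2, add_zero]⟩
      smul_mem' := fun c x hx => ⟨(orth B W).smul_mem c hx.1, fun g => by rw [map_smul, hx.2, smul_zero]⟩ }
  have hS₁ : Y ≤ S₁ := by
    refine between hW hZ (IsV.irr ι p hZc) (S := S₁) (fun g x hx => ⟨D.orth_inv hW g x hx.1, fun g' => ?_⟩)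
      (fun x hx => ⟨hiso hx, fun g => ?_⟩) ⟨m', ⟨hm'W, hg1⟩, hmW, hmZ⟩
    · rw [D.inv', ← Module.End.mul_apply, ← map_mul]
      exact hx.2 _
    · rw [hsw, D.orth_inv hW g m' hm'W x hx, neg_zero]
  let S₂ : Submodule k V :=
    { carrier := {y | ∀ x ∈ Y, B x y = 0}
      zero_mem' := fun x _ => map_zero _
      add_mem' := fun {x y} hx hy z hz => by rw [map_add, hx z hz, hy z hz, add_zero]
      smul_mem' := fun c x hx z hz => by rw [map_smul, hx z hz, smul_zero] }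
  have hS₂ : Y ≤ S₂ := by
    refine between hW hZ (IsV.irr ι p hZc) (S := S₂) (fun g x hx y hy => ?_)
      (fun x hx y hy => ?_) ⟨m', fun y hy => ?_, hmW, hmZ⟩
    · rw [D.inv']
      exact hx _ (hYi _ _ hy)
    · rw [hsw, hYW hy x hx, neg_zero]
    · have h1 := (hS₁ hy).2 1
      rw [map_one, Module.End.one_apply] at h1
      rw [hsw, h1, neg_zero]
  refine ⟨Y, hYi, hS₂, lt_of_le_of_ne hWY ?_⟩
  intro h0
  apply hmW
  rw [h0]
  exact hmZ

/-- **evenness** -/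
theorem even_cf (h2 : (2 : k) ≠ 0) (hcen : ρ (h (-1)) = 1) (D : Dul ρ ρ B) (halt : ∀ x, B x x = 0) :
    ∃ s : Multiset ℕ, cf (Sy.{u, v, w} ι p) ρ = s + s := by
  have key : ∀ (n : ℕ) (W : Submodule k V), (∀ g, ∀ x ∈ W, ρ g x ∈ W) → W ≤ orth B W →
      Module.finrank k V ≤ Module.finrank k W + n →
      ∃ Y : Submodule k V, (∀ g, ∀ x ∈ Y, ρ g x ∈ Y) ∧ Y = orth B Y := by
    intro n
    induction n with
    | zero =>
      intro W hW hiso hn
      have hWt : W = ⊤ := Submodule.eq_top_of_finrank_eq (le_antisymm (Submodule.finrank_le W) (by omega))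
      refine ⟨W, hW, le_antisymm hiso ?_⟩
      rw [hWt]
      exact le_top
    | succ n ih =>
      intro W hW hiso hn
      by_cases hne : orth B W ≤ W
      · exact ⟨W, hW, le_antisymm hiso hne⟩
      · obtain ⟨Y, hY, hYo, hWY⟩ := step_iso ι p h2 hcen D halt hW hiso hne
        have h3 := Submodule.finrank_lt_finrank_of_lt hWY
        exact ih Y hY hYo (by omega)
  obtain ⟨Y, hY, hYo⟩ := key (Module.finrank k V) ⊥ (fun g x hx => by
    rw [(Submodule.mem_bot k).1 hx, map_zero]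
    exact Submodule.zero_mem _) bot_le (by omega)
  obtain ⟨B', D', -⟩ := D.sub hY
  have h3 : ∀ (Y' : Submodule k V) (hY' : ∀ g, ∀ x ∈ Y', ρ g x ∈ Y'), Y' = Y →
      cf (Sy.{u, v, w} ι p) (quotRep ρ Y' hY') = cf (Sy.{u, v, w} ι p) (quotRep ρ Y hY) := by
    rintro Y' hY' rfl
    rfl
  refine ⟨cf (Sy.{u, v, w} ι p) (subRep ρ Y hY), ?_⟩
  rw [cf_add (Sy.{u, v, w} ι p) ρ Y hY, ← h3 (orth B Y) (D.orth_inv hY) hYo.symm, cf_dual ι p D']

end

end Cfsg.Agent.R2.T1.N6L
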