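import Cfsg.Agent.H952.F4.Gen
import Cfsg.Agent.H952.F4.Scott
import Cfsg.Agent.R2.T1.Inf.LCnt
import Cfsg.Agent.R2.T1.Inf.Form
import Cfsg.Agent.R2.T1.N6R.A6

/-!
# S5929, `n = 6`: Scott's lemma for the triple `(2, 4, 5)` of `A₆` (helper7)

* `gen6c` : `A₆` is generated by elements of order 2 and 4 whose product has order 5;
* `scott245` : on the module of degree 56; `scott245L` : on the adjoint module.
-/

set_option autoImplicit false
set_option maxRecDepth 100000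

namespace Cfsg.Agent.R2.T1.N6L

open Cfsg Cfsg.Lie Module Equiv Equiv.Perm
open Cfsg.Agent.H943.E7V.Block (D1 rho)
open Cfsg.Agent.H952.F4 (ev es MaxAlt GenT)
open Cfsg.Agent.R2.T1

universe u

theorem gen6c : GenT 6 {2, 2} {4, 2} {5} :=
  Cfsg.Agent.H952.F4.Gen.genT_of (n := 4) (c[1, 2] * c[4, 5]) (c[0, 1] * c[2, 3, 4, 5]) (by decide +kernel)
    (by decide +kernel)
    ![[],
    [],
    [2, 0, 2, 2, 0, 3, 0],
    [0, 3, 0, 3, 0, 2, 0, 2, 2],
    [3, 0, 2, 2, 0, 3, 0, 2, 2],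
    [3, 0, 2, 0, 2, 2, 0]]
    (by decide +kernel) (by decide +kernel) (by decide +kernel) (by decide +kernel)

/-- the generating triple -/
theorem triple : ∃ x y : ↥(alternatingGroup (Fin 6)), Subgroup.closure {x, y} = ⊤ ∧ orderOf x = 2 ∧ orderOf y = 4 ∧
    orderOf (x * y) = 5 := by
  obtain ⟨x, y, h, hx, hy, hxy⟩ := gen6c
  refine ⟨x, y, h, ?_, ?_, ?_⟩
  · rw [N6R.ord6, hx]; decide
  · rw [N6R.ord6, hy]; decide
  · rw [N6R.ord6, hxy]; decide

variable {F : Type u} [Field F] {H : Subgroup ↥(chevE7.group F)}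
  {φ : ↥(alternatingGroup (Fin 6)) →* ↥(chevE7.group F)} {ψ : ↥(alternatingGroup (Fin 6)) →* Gh F}

/-- **Scott's lemma on the module of degree 56** -/
theorem scott245 [Finite F] (hM : MaxAlt H 6 φ) (hL : Lift φ ψ) : ∃ x y z : ↥(alternatingGroup (Fin 6)),
    orderOf x = 2 ∧ orderOf y = 4 ∧ orderOf z = 5 ∧
      ev (V F (ψ x)) 1 + ev (V F (ψ y)) 1 + ev (V F (ψ z)) 1 ≤ 56 := by
  obtain ⟨x, y, h, hx, hy, hxy⟩ := triple
  refine ⟨x, y, x * y, hx, hy, hxy, ?_⟩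
  have h := Cfsg.Agent.H952.F4.Scott.scott_form (MonoidHom.comp (V F) ψ) (x := x) (y := y) h (sf F)
    (fun v hv => sf_nondeg' hv) (fun g v w => sf_V _ v w)
  rw [finrank_V, no_fixed hM (by norm_num) (by norm_num) hL, finrank_bot, mul_zero, add_zero] at h
  exact h

/-- **Scott's lemma on the adjoint module** -/
theorem scott245L (h2 : (2 : F) ≠ 0) (hinv : Representation.invariants (MonoidHom.comp (L F) ψ) = ⊥) :
    ∃ x y z : ↥(alternatingGroup (Fin 6)), orderOf x = 2 ∧ orderOf y = 4 ∧ orderOf z = 5 ∧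
      ev (L F (ψ x)) 1 + ev (L F (ψ y)) 1 + ev (L F (ψ z)) 1 ≤ 133 := by
  obtain ⟨x, y, h, hx, hy, hxy⟩ := triple
  refine ⟨x, y, x * y, hx, hy, hxy, ?_⟩
  have h := Cfsg.Agent.H952.F4.Scott.scott_form (MonoidHom.comp (L F) ψ) (x := x) (y := y) h (kf F)
    (fun v hv => kf_nondeg h2 fun w => by rw [kf_comm]; exact hv w) (fun g v w => kf_L _ v w)
  rw [finrank_L, hinv, finrank_bot, mul_zero, add_zero] at h
  exact h

end Cfsg.Agent.R2.T1.N6L
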