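import Cfsg.Agent.R2.T1.N6L.Pats
import Cfsg.Agent.R2.T1.N6L.Sc
import Cfsg.Agent.R2.T1.N6R.Card

/-!
# S5929, `n = 6`, `p = 3`, lift: the two patterns (helper7, helper11)

* `nine_le` : `9 ≤ |F|`;
* `patterns` : `|H| ≤ 720`, `9 ≤ |F|`, and the pattern is `Q1` or `Q3`.
-/

set_option autoImplicit false

namespace Cfsg.Agent.R2.T1.N6L

open Cfsg Cfsg.Lie Module
open Cfsg.Agent.H943.E7V.Block (D1 rho)
open Cfsg.Agent.H952.F4 (ev es MaxAlt)
open Cfsg.Agent.R2.T1

universe u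

variable {F : Type u} [Field F]

/-- `F` contains the field with nine elements -/
theorem nine_le [Finite F] (h3 : (3 : F) = 0) {τ : F} (hτ : τ * τ + τ - 1 = 0) : 9 ≤ Nat.card F := by
  classical
  have h2 : (2 : F) ≠ 0 := by
    intro h2
    have h' : (1 : F) = 0 := by linear_combination h3 - h2
    exact one_ne_zero h'
  have hi : (2 * τ + 1) * (2 * τ + 1) = (-1 : F) := by linear_combination 4 * hτ + 2 * h3
  have hF := Fintype.ofFinite F
  have hprime : Fact (Nat.Prime 3) := ⟨Nat.prime_three⟩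
  have hchar : CharP F 3 := by
    obtain ⟨p, hp⟩ := CharP.exists F
    have h1 : p ∣ 3 := (CharP.cast_eq_zero_iff F p 3).1 (by exact_mod_cast h3)
    have h4 : p = 3 := ((Nat.dvd_prime Nat.prime_three).1 h1).resolve_left (CharP.char_ne_one F p)
    rwa [← h4]
  obtain ⟨n, -, hn⟩ := FiniteField.card F 3
  rw [Nat.card_eq_fintype_card, hn]
  have hn1 : (n : ℕ) ≠ 1 := by
    intro h1
    rw [h1, pow_one] at hn
    have hi0 : (2 * τ + 1 : F) ≠ 0 := by
      intro h0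
      rw [h0, zero_mul] at hi
      exact one_ne_zero (neg_eq_zero.1 hi.symm)
    have h5 := FiniteField.pow_card_sub_one_eq_one (2 * τ + 1 : F) hi0
    rw [hn, show 3 - 1 = 2 by norm_num, pow_two, hi] at h5
    apply h2
    linear_combination -h5
  have hn2 : 2 ≤ (n : ℕ) := by
    have := n.pos
    omega
  calc 9 = 3 ^ 2 := by norm_num
    _ ≤ 3 ^ (n : ℕ) := Nat.pow_le_pow_right (by norm_num) hn2

variable {H : Subgroup ↥(chevE7.group F)} {φ : ↥(alternatingGroup (Fin 6)) →* ↥(chevE7.group F)}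
  {ψ : ↥(alternatingGroup (Fin 6)) →* Gh F}

/-- **the two patterns** -/
theorem patterns [Finite F] (h3 : (3 : F) = 0) (hM : MaxAlt H 6 φ) (hL : Lift φ ψ) :
    Nat.card ↥H ≤ 720 ∧ 9 ≤ Nat.card F ∧ ∃ (τ : F) (a b : ↥(alternatingGroup (Fin 6))),
      Dat ψ τ a b 24 12 12 10 12 ∨ Dat ψ τ a b 32 12 12 12 10 := by
  have h2 : (2 : F) ≠ 0 := by
    intro h2
    have h' : (1 : F) = 0 := by linear_combination h3 - h2
    exact one_ne_zero h'
  obtain ⟨x, b, a, hx, hb, ha, hS⟩ := scott245 hM hL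
  obtain ⟨τ, h⟩ := pats h3 hx hb ha hS
  rcases h with h | h
  · exact ⟨N6R.card_H h2 hM hL h (by norm_num), nine_le h3 h.hτ, τ, a, b, Or.inl h⟩
  · exact ⟨N6R.card_H h2 hM hL h (by norm_num), nine_le h3 h.hτ, τ, a, b, Or.inr h⟩

end Cfsg.Agent.R2.T1.N6L
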