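import Cfsg.Agent.R2.T1.N6L.Q3
import Cfsg.Agent.R2.T1.N6L.C3
import Cfsg.Agent.R2.T1.N6L.Patt
import Cfsg.Agent.R2.T1.N6R.Card
import Cfsg.Agent.R2.T2.Orb.Three

/-!
# S5929: n = 6, p = 3, lift (assembly: helper14)
-/

set_option autoImplicit false

namespace Cfsg.Agent.R2.T1.N6L

open Cfsg Cfsg.Lie Module
open Cfsg.Agent.H943.E7V.Block (D1 rho)
open Cfsg.Agent.H952.F4 (ev es MaxAlt)
open Cfsg.Agent.R2.T1

universe u

variable {F : Type u} [Field F] {H : Subgroup ↥(chevE7.group F)}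
  {φ : ↥(alternatingGroup (Fin 6)) →* ↥(chevE7.group F)} {ψ : ↥(alternatingGroup (Fin 6)) →* Gh F}

/-- **the box `six3` of S5929** -/
theorem six3 [Finite F] (hM : MaxAlt H 6 φ) (hL : Lift φ ψ) (h3 : (3 : F) = 0) : False := by
  obtain ⟨hc, hq, τ, a, b, hd⟩ := patterns h3 hM hL
  have hinv := Cfsg.Agent.R2.T2.Orb.no_inv_three hM hL h3 hc hq hd
  rcases hd with hd | hd
  · exact no_q1 h3 hM hL hd fun U hU h => N6R.hno h3 hM hL hc hinv hd (by norm_num) U hU h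
  · exact noQ3 h3 hd hinv

end Cfsg.Agent.R2.T1.N6L
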