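import Cfsg.Agent.R2.T1.N6L.Pi
import Cfsg.Agent.R2.T1.N6L.MuDef

/-!
# S5929, n = 6, p = 3: multiplicities over an algebraically closed field (helper11)

* `mf_N` : the multiplicities of the eigenvalues on `V_b`;
* `mu_of` : `Mu ρ τ a (n 0) (n 2) (n 6) (n 4) (n 8)` for a multiplicity function `n` of `ρ ∘ π`;
* `exists_muK`.
-/

set_option autoImplicit false
set_option linter.unusedSectionVars false

namespace Cfsg.Agent.R2.T1.N6L

open Matrix Cfsg.Agent.H943.SL2Rel Cfsg.Agent.H943.SL2Mod Cfsg.Agent.H943.RepAdd Cfsg.Agent.R2.H28.SL2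
open Cfsg.Agent.H179.SLC (IsSS fx mem_fx)
open Cfsg.Agent.H952.F4 (ev es)
open Cfsg.Agent.R2.T1

universe u v w

/-- the multiplicity of `ζ ^ j` on `V_b`, `ζ` a primitive `N`-th root of unity -/
def mN (N b j : ℕ) : ℕ :=
  (((Finset.range (b + 1)).filter fun m => ¬ 3 ∣ b.choose m).filter fun m => 2 * m % N = (b + j) % N).card

variable {k : Type u} [Field k] [DecidableEq k] [CharP k 3] {F : Type w} [Field F] [Fintype F] [DecidableEq F]
  [CharP F 3] (ι : F →+* k)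

omit [CharP F 3] [Fintype F] [DecidableEq F] in
theorem mf_N {ζ : k} {N : ℕ} (hζ : IsPrimitiveRoot ζ N) (hN : 0 < N) (b j : ℕ) : mf b ζ (ζ ^ j) = mN N b j := by
  unfold mf mN
  have hBf : Bf k b = (Finset.range (b + 1)).filter fun m => ¬ 3 ∣ b.choose m := by
    unfold Bf
    refine Finset.filter_congr fun m _ => ?_
    rw [Ne, CharP.cast_eq_zero_iff k 3]
  rw [hBf]
  congr 1
  refine Finset.filter_congr fun m hm => ?_
  have hmb : m ≤ b := by
    have := Finset.mem_range.1 (Finset.mem_filter.1 hm).1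
    omega
  have hζ0 : ζ ≠ 0 := hζ.ne_zero hN.ne'
  have h1 : ζ ^ m * ζ⁻¹ ^ (b - m) = ζ ^ j ↔ ζ ^ (2 * m) = ζ ^ (b + j) := by
    rw [inv_pow, ← div_eq_mul_inv, div_eq_iff (pow_ne_zero _ hζ0), ← pow_add]
    constructor
    · intro h
      rw [two_mul, pow_add]
      nth_rewrite 1 [h]
      rw [← pow_add]
      congr 1
      omega
    · intro h
      have h2 : ζ ^ m * ζ ^ m = ζ ^ (j + (b - m)) * ζ ^ m := by
        rw [← pow_add, ← pow_add, ← two_mul, h]
        congr 1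
        omega
      exact mul_right_cancel₀ (pow_ne_zero _ hζ0) h2
  rw [h1, (hζ.isOfFinOrder hN.ne').pow_eq_pow_iff_modEq, ← hζ.eq_orderOf]
  rfl

section ev

variable [IsAlgClosed k] {M : Type v} [AddCommGroup M] [Module k M] [FiniteDimensional k M]
  (ρ : Representation k ↥(alternatingGroup (Fin 6)) M) {π : SpecialLinearGroup (Fin 2) F →* ↥(alternatingGroup (Fin 6))}
  {n : ℕ → ℕ}

theorem ev_eq (g : SpecialLinearGroup (Fin 2) F) (ν : k) :
    ev (ρ (π g)) ν = Module.finrank k (eig (MonoidHom.comp ρ π : Representation k _ M) g ν) := by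
  have h : (Module.End.eigenspace (ρ (π g)) ν) = eig (MonoidHom.comp ρ π : Representation k _ M) g ν := by
    ext x
    rw [Module.End.mem_eigenspace_iff, mem_eig]
    rfl
  rw [ev, h]

theorem odd_zero (hk : ∀ g, π g = 1 ↔ g = 1 ∨ g = -1)
    (H : IsMult ι 3 2 (MonoidHom.comp ρ π : Representation k _ M) n) {b : ℕ} (hb : b % 2 = 1) : n b = 0 := by
  by_contra h
  have h1 := H.even ι 3 (by norm_num) (by
    have h2 : π (Cfsg.Agent.H943.SL2Rel.h (-1)) = 1 := by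
      rw [hk]
      right
      apply Subtype.ext
      rw [Matrix.SpecialLinearGroup.coe_neg, Matrix.SpecialLinearGroup.coe_one]
      show !![((-1 : Fˣ) : F), 0; 0, ((-1 : Fˣ) : F)⁻¹] = -1
      ext i j
      fin_cases i <;> fin_cases j <;> simp
    show ρ (π _) = 1
    rw [h2, map_one]) b h
  rw [Nat.even_iff] at h1
  omega

theorem ev_sum (hk : ∀ g, π g = 1 ↔ g = 1 ∨ g = -1)
    (H : IsMult ι 3 2 (MonoidHom.comp ρ π : Representation k _ M) n) {g : SpecialLinearGroup (Fin 2) F} {ζ : k} {N : ℕ}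
    (hg : IsSS ι g ζ) (hζ : IsPrimitiveRoot ζ N) (hN : (N : k) ≠ 0) (j : ℕ) :
    ev (ρ (π g)) (ζ ^ j) = n 0 * mN N 0 j + n 2 * mN N 2 j + n 4 * mN N 4 j + n 6 * mN N 6 j + n 8 * mN N 8 j := by
  have hN0 : 0 < N := Nat.pos_of_ne_zero (by
    rintro rfl
    exact hN Nat.cast_zero)
  rw [ev_eq ρ, H.eigen g ζ N hg hζ.pow_eq_one hN (ζ ^ j) (by rw [← pow_mul, mul_comm, pow_mul, hζ.pow_eq_one, one_pow])]
  rw [Finset.sum_congr rfl fun b _ => by rw [mf_N hζ hN0 b j]]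
  rw [show 3 ^ 2 = 9 by norm_num]
  simp only [Finset.sum_range_succ, Finset.sum_range_zero]
  rw [odd_zero ι ρ hk H (b := 1) rfl, odd_zero ι ρ hk H (b := 3) rfl, odd_zero ι ρ hk H (b := 5) rfl,
    odd_zero ι ρ hk H (b := 7) rfl]
  ring

theorem cast_ne {N : ℕ} (h : ¬ 3 ∣ N) : (N : k) ≠ 0 := by
  rw [Ne, CharP.cast_eq_zero_iff k 3]
  exact h

omit [CharP F 3] [Fintype F] [DecidableEq F] [FiniteDimensional k M] in
theorem inv_eq (hs : Function.Surjective π) :
    fx (MonoidHom.comp ρ π : Representation k _ M) = Representation.invariants ρ := by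
  ext x
  rw [mem_fx, Representation.mem_invariants]
  constructor
  · intro h g
    obtain ⟨y, rfl⟩ := hs g
    exact h y
  · intro h g
    exact h (π g)

/-- **the multiplicities** -/
theorem mu_of (hF : Fintype.card F = 9) (hs : Function.Surjective π) (hk : ∀ g, π g = 1 ↔ g = 1 ∨ g = -1)
    (H : IsMult ι 3 2 (MonoidHom.comp ρ π : Representation k _ M) n) {g : SpecialLinearGroup (Fin 2) F} {ζ : k}
    (hg : IsSS ι g ζ) (hζ : IsPrimitiveRoot ζ 5) :
    Mu ρ (ζ ^ 2 + (ζ ^ 2)⁻¹) (π g) (n 0) (n 2) (n 6) (n 4) (n 8) ∧ Mu ρ (ζ + ζ⁻¹) (π g) (n 0) (n 6) (n 2) (n 4) (n 8) := by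
  have hdim : Module.finrank k M = n 0 + 3 * n 2 + 3 * n 6 + 4 * n 4 + 9 * n 8 := by
    have h1 := H.dim
    have hc : ∀ b, (Bf k b).card = ((Finset.range (b + 1)).filter fun m => ¬ 3 ∣ b.choose m).card := by
      intro b
      congr 1
      unfold Bf
      refine Finset.filter_congr fun m _ => ?_
      rw [Ne, CharP.cast_eq_zero_iff k 3]
    rw [h1, Finset.sum_congr rfl fun b _ => by rw [hc b], show 3 ^ 2 = 9 by norm_num]
    simp only [Finset.sum_range_succ, Finset.sum_range_zero]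
    rw [odd_zero ι ρ hk H (b := 1) rfl, odd_zero ι ρ hk H (b := 3) rfl, odd_zero ι ρ hk H (b := 5) rfl,
      odd_zero ι ρ hk H (b := 7) rfl]
    have e0 : ((Finset.range (0 + 1)).filter fun m => ¬ 3 ∣ Nat.choose 0 m).card = 1 := by decide
    have e2 : ((Finset.range (2 + 1)).filter fun m => ¬ 3 ∣ Nat.choose 2 m).card = 3 := by decide
    have e4 : ((Finset.range (4 + 1)).filter fun m => ¬ 3 ∣ Nat.choose 4 m).card = 4 := by decide
    have e6 : ((Finset.range (6 + 1)).filter fun m => ¬ 3 ∣ Nat.choose 6 m).card = 3 := by decide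
    have e8 : ((Finset.range (8 + 1)).filter fun m => ¬ 3 ∣ Nat.choose 8 m).card = 9 := by decide
    rw [e0, e2, e4, e6, e8]
    ring
  have htwo : ∀ x : ↥(alternatingGroup (Fin 6)), orderOf x = 2 → ev (ρ x) 1 = n 0 + n 2 + n 6 + 2 * n 4 + 5 * n 8 := by
    intro x hx
    obtain ⟨g', ζ', rfl, hg', hζ'⟩ := lift2 ι hF hs hk hx
    have h1 := ev_sum ι ρ hk H hg' hζ' (cast_ne (by norm_num)) 0
    rw [pow_zero] at h1
    rw [h1, show mN 4 0 0 = 1 by decide, show mN 4 2 0 = 1 by decide, show mN 4 4 0 = 2 by decide,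
      show mN 4 6 0 = 1 by decide, show mN 4 8 0 = 5 by decide]
    ring
  have hfour : ∀ x : ↥(alternatingGroup (Fin 6)), orderOf x = 4 → ev (ρ x) 1 = n 0 + n 2 + n 6 + 3 * n 8 := by
    intro x hx
    obtain ⟨g', ζ', rfl, hg', hζ'⟩ := lift4 ι hF hs hk hx
    have h1 := ev_sum ι ρ hk H hg' hζ' (cast_ne (by norm_num)) 0
    rw [pow_zero] at h1
    rw [h1, show mN 8 0 0 = 1 by decide, show mN 8 2 0 = 1 by decide, show mN 8 4 0 = 0 by decide,
      show mN 8 6 0 = 1 by decide, show mN 8 8 0 = 3 by decide]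
    ring
  have hfive : ∀ x : ↥(alternatingGroup (Fin 6)), orderOf x = 5 → ev (ρ x) 1 = n 0 + n 2 + n 6 + n 8 := by
    intro x hx
    obtain ⟨g', ζ', rfl, hg', hζ'⟩ := lift5 ι hF hs hk hx
    have h1 := ev_sum ι ρ hk H hg' hζ' (cast_ne (by norm_num)) 0
    rw [pow_zero] at h1
    rw [h1, show mN 5 0 0 = 1 by decide, show mN 5 2 0 = 1 by decide, show mN 5 4 0 = 0 by decide,
      show mN 5 6 0 = 1 by decide, show mN 5 8 0 = 1 by decide]
    ring
  have hp : n 0 ≤ Module.finrank k ↥(Representation.invariants ρ) + 2 * n 4 := by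
    have h1 := H.pressure
    rw [inv_eq ρ hs, show 3 ^ 2 = 9 by norm_num] at h1
    simp only [Finset.sum_range_succ, Finset.sum_range_zero] at h1
    rw [odd_zero ι ρ hk H (b := 1) rfl, odd_zero ι ρ hk H (b := 3) rfl, odd_zero ι ρ hk H (b := 5) rfl,
      odd_zero ι ρ hk H (b := 7) rfl, show hb 3 2 0 = 0 by decide, show hb 3 2 2 = 0 by decide,
      show hb 3 2 4 = 2 by decide, show hb 3 2 6 = 0 by decide, show hb 3 2 8 = 0 by decide] at h1
    omega
  -- the quadratic factors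
  have h5 : ((5 : ℕ) : k) ≠ 0 := cast_ne (by norm_num)
  have hζ0 : ζ ≠ 0 := hζ.ne_zero (by norm_num)
  have hz5 := hζ.pow_eq_one
  have hinv1 : ζ⁻¹ = ζ ^ 4 := inv_eq_of_mul_eq_one_left (by rw [← pow_succ]; exact hz5)
  have hinv2 : (ζ ^ 2)⁻¹ = ζ ^ 3 := inv_eq_of_mul_eq_one_left (by rw [← pow_add]; exact hz5)
  have hn1 : ζ ≠ ζ⁻¹ := by
    rw [hinv1]
    intro h
    have := hζ.pow_inj (i := 1) (j := 4) (by norm_num) (by norm_num) (by rw [pow_one]; exact h)
    omega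
  have hn2 : ζ ^ 2 ≠ (ζ ^ 2)⁻¹ := by
    rw [hinv2]
    intro h
    have := hζ.pow_inj (i := 2) (j := 3) (by norm_num) (by norm_num) h
    omega
  have q1 : Module.finrank k ↥(LinearMap.ker (Five.qd (ζ + ζ⁻¹) (ρ (π g)))) = 2 * (n 6 + n 4 + 2 * n 8) := by
    rw [ker_qd_split _ hζ0 hn1, hinv1]
    have e1 := ev_sum ι ρ hk H hg hζ h5 1
    have e4 := ev_sum ι ρ hk H hg hζ h5 4
    rw [pow_one] at e1
    rw [e1, e4, show mN 5 0 1 = 0 by decide, show mN 5 2 1 = 0 by decide, show mN 5 4 1 = 1 by decide,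
      show mN 5 6 1 = 1 by decide, show mN 5 8 1 = 2 by decide, show mN 5 0 4 = 0 by decide, show mN 5 2 4 = 0 by decide,
      show mN 5 4 4 = 1 by decide, show mN 5 6 4 = 1 by decide, show mN 5 8 4 = 2 by decide]
    ring
  have q2 : Module.finrank k ↥(LinearMap.ker (Five.qd (ζ ^ 2 + (ζ ^ 2)⁻¹) (ρ (π g)))) = 2 * (n 2 + n 4 + 2 * n 8) := by
    rw [ker_qd_split _ (pow_ne_zero 2 hζ0) hn2, hinv2]
    have e1 := ev_sum ι ρ hk H hg hζ h5 2
    have e4 := ev_sum ι ρ hk H hg hζ h5 3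
    rw [e1, e4, show mN 5 0 2 = 0 by decide, show mN 5 2 2 = 1 by decide, show mN 5 4 2 = 1 by decide,
      show mN 5 6 2 = 0 by decide, show mN 5 8 2 = 2 by decide, show mN 5 0 3 = 0 by decide, show mN 5 2 3 = 1 by decide,
      show mN 5 4 3 = 1 by decide, show mN 5 6 3 = 0 by decide, show mN 5 8 3 = 2 by decide]
    ring
  have hsum : ζ ^ 4 + ζ ^ 3 + ζ ^ 2 + ζ + 1 = 0 := by
    have h2 := hζ.geom_sum_eq_zero (by norm_num)
    simp only [Finset.sum_range_succ, Finset.sum_range_zero, pow_zero, pow_one] at h2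
    linear_combination h2
  have t1 : -1 - (ζ + ζ⁻¹) = ζ ^ 2 + (ζ ^ 2)⁻¹ := by
    rw [hinv1, hinv2]
    linear_combination (-1 : k) * hsum
  have t2 : -1 - (ζ ^ 2 + (ζ ^ 2)⁻¹) = ζ + ζ⁻¹ := by
    rw [hinv1, hinv2]
    linear_combination (-1 : k) * hsum
  refine ⟨⟨hdim, htwo, hfour, hfive, q2, by rw [t2]; exact q1, hp⟩, ⟨by rw [hdim]; ring, fun x hx => ?_, fun x hx => ?_,
    fun x hx => ?_, q1, by rw [t1]; exact q2, hp⟩⟩
  · rw [htwo x hx]; ring
  · rw [hfour x hx]; ring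
  · rw [hfive x hx]; ring

end ev

end Cfsg.Agent.R2.T1.N6L
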