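import Cfsg.Agent.R2.T1.N6L.MuI
import Cfsg.Agent.R2.T1.N6L.Ev
import Cfsg.Agent.R2.T1.Inf.Form

/-!
# S5929, n = 6, p = 3, lift: the patterns (helper11)

* `vk_data` : the multiplicities of the module of degree 56 are even;
* `pats` : from Scott's lemma, the patterns `1² 3a⁴ 3b⁶ 4⁶` and `1¹⁰ 3a² 4¹⁰`.
-/

set_option autoImplicit false
set_option linter.unusedSectionVars false

namespace Cfsg.Agent.R2.T1.N6L

open Cfsg Cfsg.Lie Module
open Matrix Cfsg.Agent.H943.SL2Rel Cfsg.Agent.H943.SL2Mod Cfsg.Agent.H943.RepAdd Cfsg.Agent.R2.H28.SL2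
open Cfsg.Agent.H179.SLC (IsSS fx mem_fx)
open Cfsg.Agent.H943.E7V.Block (D1 rho)
open Cfsg.Agent.H952.F4 (ev es MaxAlt)
open Cfsg.Agent.R2.T1

universe u

section
variable {F : Type u} [Field F] (ψ : ↥(alternatingGroup (Fin 6)) →* Gh F)

/-- the module over the algebraic closure -/
noncomputable def VK : Representation (AlgebraicClosure F) ↥(alternatingGroup (Fin 6)) (D1 → AlgebraicClosure F) :=
  MonoidHom.comp (V (AlgebraicClosure F)) ((emb (algebraMap F (AlgebraicClosure F))).comp ψ)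

theorem VK_apply (x : ↥(alternatingGroup (Fin 6))) :
    VK ψ x = V (AlgebraicClosure F) (emb (algebraMap F (AlgebraicClosure F)) (ψ x)) := rfl

variable {π : SpecialLinearGroup (Fin 2) F9 →* ↥(alternatingGroup (Fin 6))} (hs : Function.Surjective π)
  (hk : ∀ g, π g = 1 ↔ g = 1 ∨ g = -1)

theorem dulVK : Dul (MonoidHom.comp (VK ψ) π : Representation (AlgebraicClosure F) _ _)
    (MonoidHom.comp (VK ψ) π : Representation (AlgebraicClosure F) _ _) (sf (AlgebraicClosure F)) where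
  inv g x y := sf_V _ x y
  left x h := sf_nondeg' h
  right y h := sf_nondeg h

include hk in
theorem cenVK : (MonoidHom.comp (VK ψ) π : Representation (AlgebraicClosure F) _ _) (Cfsg.Agent.H943.SL2Rel.h (-1)) = 1 := by
  have h2 : π (Cfsg.Agent.H943.SL2Rel.h (-1)) = 1 := by
    rw [hk]
    right
    apply Subtype.ext
    rw [Matrix.SpecialLinearGroup.coe_neg, Matrix.SpecialLinearGroup.coe_one]
    show !![((-1 : F9ˣ) : F9), 0; 0, ((-1 : F9ˣ) : F9)⁻¹] = -1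
    ext i j
    fin_cases i <;> fin_cases j <;> simp
  show VK ψ (π _) = 1
  rw [h2, map_one]

include hs hk in
/-- the multiplicities are even -/
theorem vk_data [CharP (AlgebraicClosure F) 3] [DecidableEq (AlgebraicClosure F)] (ι : F9 →+* AlgebraicClosure F)
    {τ : AlgebraicClosure F} (hτ : τ * τ + τ - 1 = 0)
    {a : ↥(alternatingGroup (Fin 6))} (ha : orderOf a = 5) : ∃ n na nb m l : ℕ,
    Mu (VK ψ) τ a (2 * n) (2 * na) (2 * nb) (2 * m) (2 * l) ∧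
    (∀ x : ↥(alternatingGroup (Fin 6)), orderOf x = 4 → ev (VK ψ x) (-1) = 4 * m + 4 * l) := by
  have h2 : (2 : AlgebraicClosure F) ≠ 0 := by
    have h1 : ((2 : ℕ) : AlgebraicClosure F) ≠ 0 := cast_ne (by norm_num)
    exact_mod_cast h1
  obtain ⟨s, hs2⟩ := even_cf ι 3 h2 (cenVK ψ hk) (dulVK ψ (π := π)) sf_self
  have H := isMult_cf ι 3 card_F9' (MonoidHom.comp (VK ψ) π : Representation (AlgebraicClosure F) _ _)
  have hev : ∀ b, (Cfsg.Agent.R2.H28.SL2.cf (Sy.{u, u, 0} ι 3) (MonoidHom.comp (VK ψ) π : Representation (AlgebraicClosure F) _ _)).count b =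
      2 * s.count b := by
    intro b
    rw [hs2, Multiset.count_add, two_mul]
  simp only [hev] at H
  have hneg : ∀ x : ↥(alternatingGroup (Fin 6)), orderOf x = 4 → ev (VK ψ x) (-1) = 4 * s.count 4 + 4 * s.count 8 := by
    intro x hx
    obtain ⟨g', ζ', rfl, hg', hζ'⟩ := lift4 ι card_F9 hs hk hx
    have h1 := ev_sum ι (VK ψ) hk H hg' hζ' (cast_ne (by norm_num)) 4
    have h4 : ζ' ^ 4 = -1 := by
      have h5 : (ζ' ^ 4 - 1) * (ζ' ^ 4 + 1) = 0 := by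
        have h6 := hζ'.pow_eq_one
        linear_combination h6
      rcases mul_eq_zero.1 h5 with h6 | h6
      · exfalso
        have h7 := hζ'.pow_ne_one_of_pos_of_lt (l := 4) (by norm_num) (by norm_num)
        exact h7 (sub_eq_zero.1 h6)
      · exact eq_neg_of_add_eq_zero_left h6
    rw [h4] at h1
    rw [h1, show mN 8 0 4 = 0 by decide, show mN 8 2 4 = 0 by decide, show mN 8 4 4 = 2 by decide,
      show mN 8 6 4 = 0 by decide, show mN 8 8 4 = 2 by decide]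
    ring
  rcases mu_any hs hk ι (VK ψ) H hτ ha with h | h
  · exact ⟨_, _, _, _, _, h, hneg⟩
  · exact ⟨_, _, _, _, _, h, hneg⟩

end

/-- the numbers -/
theorem nums {n na nb m l d2 d4 c4 d5 : ℕ} {P : List ℕ × List ℕ} (hP : P ∈ T4) {Q : List ℕ × List ℕ} (hQ : Q ∈ T5)
    (hdim : 56 = 2 * n + 3 * (2 * na) + 3 * (2 * nb) + 4 * (2 * m) + 9 * (2 * l))
    (h2 : d2 = 2 * n + 2 * na + 2 * nb + 2 * (2 * m) + 5 * (2 * l)) (h4 : d4 = 2 * n + 2 * na + 2 * nb + 3 * (2 * l))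
    (hc : c4 = 4 * m + 4 * l) (h5 : d5 = 2 * n + 2 * na + 2 * nb + 2 * l)
    (hP0 : d4 = P.1.getD 0 0) (hP2 : c4 = P.1.getD 2 0) (hQ0 : d5 = Q.1.getD 0 0) (hS : d2 + d4 + d5 ≤ 56)
    (hu : Q.1.getD 1 0 = 2 * na + 2 * m + 2 * (2 * l)) (hv : Q.1.getD 2 0 = 2 * nb + 2 * m + 2 * (2 * l)) :
    d4 = 12 ∧ d5 = 12 ∧ ((d2 = 24 ∧ ((Q.1.getD 1 0 = 10 ∧ Q.1.getD 2 0 = 12) ∨ (Q.1.getD 1 0 = 12 ∧ Q.1.getD 2 0 = 10))) ∨
      (d2 = 32 ∧ ((Q.1.getD 1 0 = 12 ∧ Q.1.getD 2 0 = 10) ∨ (Q.1.getD 1 0 = 10 ∧ Q.1.getD 2 0 = 12)))) := by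
  have key4 : ∀ P ∈ T4, (P.1.getD 0 0, P.1.getD 2 0) ∈
      [(56, 0), (0, 56), (0, 0), (32, 24), (24, 32), (32, 0), (0, 32), (20, 4), (4, 20), (20, 12), (12, 20), (12, 12),
        (16, 16)] := by decide
  have key5 : ∀ Q ∈ T5, (Q.1.getD 0 0 = 56 ∨ Q.1.getD 0 0 = 0 ∨ Q.1.getD 0 0 = 32 ∨ Q.1.getD 0 0 = 20 ∨ Q.1.getD 0 0 = 2 ∨
      Q.1.getD 0 0 = 16 ∨ Q.1.getD 0 0 = 6 ∨ Q.1.getD 0 0 = 10 ∨
      (Q.1.getD 0 0 = 12 ∧ Q.1.getD 1 0 = 7) ∨ (Q.1.getD 0 0 = 12 ∧ Q.1.getD 1 0 = 15) ∨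
      (Q.1.getD 0 0 = 12 ∧ Q.1.getD 1 0 = 10) ∨ (Q.1.getD 0 0 = 12 ∧ Q.1.getD 1 0 = 12)) := by decide
  have k4 := key4 P hP
  have k5 := key5 Q hQ
  rw [← hP0, ← hP2] at k4
  rw [← hQ0] at k5
  simp only [List.mem_cons, Prod.mk.injEq, List.not_mem_nil, or_false] at k4
  clear key4 key5 hP hQ hP0 hP2 hQ0
  generalize Q.1.getD 1 0 = x at *
  generalize Q.1.getD 2 0 = y at *
  rcases k4 with ⟨rfl, rfl⟩ | ⟨rfl, rfl⟩ | ⟨rfl, rfl⟩ | ⟨rfl, rfl⟩ | ⟨rfl, rfl⟩ | ⟨rfl, rfl⟩ | ⟨rfl, rfl⟩ | ⟨rfl, rfl⟩ |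
    ⟨rfl, rfl⟩ | ⟨rfl, rfl⟩ | ⟨rfl, rfl⟩ | ⟨rfl, rfl⟩ | ⟨rfl, rfl⟩ <;> omega

/-- the numbers, rational class -/
theorem nums' {n na nb m l d2 d4 c4 d5 : ℕ} {P : List ℕ × List ℕ} (hP : P ∈ T4) {Q : List ℕ × List ℕ} (hQ : Q ∈ T5)
    (hQ1 : Q.1.getD 1 0 = Q.1.getD 2 0)
    (hdim : 56 = 2 * n + 3 * (2 * na) + 3 * (2 * nb) + 4 * (2 * m) + 9 * (2 * l))
    (h2 : d2 = 2 * n + 2 * na + 2 * nb + 2 * (2 * m) + 5 * (2 * l)) (h4 : d4 = 2 * n + 2 * na + 2 * nb + 3 * (2 * l))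
    (hc : c4 = 4 * m + 4 * l) (h5 : d5 = 2 * n + 2 * na + 2 * nb + 2 * l)
    (hP0 : d4 = P.1.getD 0 0) (hP2 : c4 = P.1.getD 2 0) (hQ0 : d5 = Q.1.getD 0 0) (hS : d2 + d4 + d5 ≤ 56) : False := by
  have key4 : ∀ P ∈ T4, (P.1.getD 0 0, P.1.getD 2 0) ∈
      [(56, 0), (0, 56), (0, 0), (32, 24), (24, 32), (32, 0), (0, 32), (20, 4), (4, 20), (20, 12), (12, 20), (12, 12),
        (16, 16)] := by decide
  have key5 : ∀ Q ∈ T5, Q.1.getD 1 0 = Q.1.getD 2 0 → Q.1.getD 0 0 = 56 ∨ Q.1.getD 0 0 = 16 := by decide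
  have k4 := key4 P hP
  have k5 := key5 Q hQ hQ1
  rw [← hP0, ← hP2] at k4
  rw [← hQ0] at k5
  simp only [List.mem_cons, Prod.mk.injEq, List.not_mem_nil, or_false] at k4
  clear key4 key5 hP hQ hP0 hP2 hQ0 hQ1
  rcases k4 with ⟨rfl, rfl⟩ | ⟨rfl, rfl⟩ | ⟨rfl, rfl⟩ | ⟨rfl, rfl⟩ | ⟨rfl, rfl⟩ | ⟨rfl, rfl⟩ | ⟨rfl, rfl⟩ | ⟨rfl, rfl⟩ |
    ⟨rfl, rfl⟩ | ⟨rfl, rfl⟩ | ⟨rfl, rfl⟩ | ⟨rfl, rfl⟩ | ⟨rfl, rfl⟩ <;> omega

section
variable {F : Type u} [Field F] [Finite F] {ψ : ↥(alternatingGroup (Fin 6)) →* Gh F}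

/-- **the patterns** -/
theorem pats (h3 : (3 : F) = 0) {x b a : ↥(alternatingGroup (Fin 6))} (hx : orderOf x = 2) (hb : orderOf b = 4)
    (ha : orderOf a = 5) (hS : ev (V F (ψ x)) 1 + ev (V F (ψ b)) 1 + ev (V F (ψ a)) 1 ≤ 56) :
    ∃ τ : F, Dat ψ τ a b 24 12 12 10 12 ∨ Dat ψ τ a b 32 12 12 12 10 := by
  classical
  have hF3 : CharP F 3 := by
    have hr := CharP.exists F
    obtain ⟨p, hp⟩ := hr
    have h1 : p ∣ 3 := (CharP.cast_eq_zero_iff F p 3).1 (by exact_mod_cast h3)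
    have h2 : p ≠ 1 := CharP.char_ne_one F p
    have h4 : p = 3 := (Nat.dvd_prime Nat.prime_three).1 h1 |>.resolve_left h2
    rw [← h4]
    exact hp
  have hK3 : CharP (AlgebraicClosure F) 3 :=
    charP_of_injective_algebraMap (algebraMap F (AlgebraicClosure F)).injective 3
  have h5F : (5 : F) ≠ 0 := by
    intro h
    have h1 : (1 : F) = 0 := by linear_combination 2 * h3 - h
    exact one_ne_zero h1
  obtain ⟨π, hs, hk⟩ := exists_pi card_F9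
  obtain ⟨ι⟩ := exists_iota (AlgebraicClosure F)
  -- order 5
  have ha5 : ψ a ^ 5 = 1 := by
    have h0 := pow_orderOf_eq_one a
    rw [ha] at h0
    rw [← map_pow, h0, map_one]
  have hb4 : ψ b ^ 4 = 1 := by
    have h0 := pow_orderOf_eq_one b
    rw [hb] at h0
    rw [← map_pow, h0, map_one]
  obtain ⟨Q, hQ, hQ0, -, hQ12⟩ := patF5 h5F ha5
  obtain ⟨ζ4, hζ4, P, hP, hP4⟩ := pat chk4 (by norm_num) 3 (by norm_num) hb4
  have e40 := (hP4 0 (by norm_num)).1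
  have e42 := (hP4 2 (by norm_num)).1
  have hζ42 : ζ4 ^ 2 = -1 := by
    have h5 : (ζ4 ^ 2 - 1) * (ζ4 ^ 2 + 1) = 0 := by
      have h6 := hζ4.pow_eq_one
      linear_combination h6
    rcases mul_eq_zero.1 h5 with h6 | h6
    · exfalso
      have h7 := hζ4.pow_ne_one_of_pos_of_lt (l := 2) (by norm_num) (by norm_num)
      exact h7 (sub_eq_zero.1 h6)
    · exact eq_neg_of_add_eq_zero_left h6
  rw [pow_zero] at e40
  rw [hζ42] at e42
  -- the square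
  have hbb : orderOf (b * b) = 2 := by
    rw [← pow_two, orderOf_pow, hb]
    decide
  rcases hQ12 with ⟨hQ1, -⟩ | ⟨τ, hτ, hq1, -, hq2, -⟩
  · -- the rational class
    exfalso
    obtain ⟨-, ζ5, -, -, hζ5⟩ := lift5 ι card_F9 hs hk ha
    obtain ⟨n, na, nb, m, l, hMu, hneg⟩ := vk_data ψ hs hk ι (golden hζ5) ha
    have h2 := hMu.two x hx
    have h4 := hMu.four b hb
    have h5 := hMu.five a ha
    have hc := hneg b hb
    have hdim := hMu.dim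
    rw [VK_apply, ev_V_one] at h2 h4 h5
    rw [VK_apply] at hc
    rw [e42] at hc
    rw [ev_V_one] at e40
    have hd56 : finrank (AlgebraicClosure F) (D1 → AlgebraicClosure F) = 56 := by
      rw [Module.finrank_fintype_fun_eq_card]
      decide +kernel
    rw [hd56] at hdim
    exact nums' hP hQ hQ1 hdim h2 h4 hc h5 e40 rfl hQ0 hS
  · have hτK : algebraMap F (AlgebraicClosure F) τ * algebraMap F (AlgebraicClosure F) τ +
        algebraMap F (AlgebraicClosure F) τ - 1 = 0 := by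
      rw [← map_mul, ← map_add, ← map_one (algebraMap F (AlgebraicClosure F)), ← map_sub, hτ, map_zero]
    obtain ⟨n, na, nb, m, l, hMu, hneg⟩ := vk_data ψ hs hk ι hτK ha
    have h2 := hMu.two x hx
    have h2b := hMu.two _ hbb
    have h4 := hMu.four b hb
    have h5 := hMu.five a ha
    have hc := hneg b hb
    have hqu := hMu.qu
    have hqv := hMu.qv
    have hdim := hMu.dim
    rw [VK_apply, ev_V_one] at h2 h2b h4 h5
    rw [VK_apply] at hc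
    rw [VK_apply, ker_qd_V, hq1] at hqu
    have hτ' : (-1 - algebraMap F (AlgebraicClosure F) τ) = algebraMap F (AlgebraicClosure F) (-1 - τ) := by
      rw [map_sub, map_neg, map_one]
    rw [VK_apply, hτ', ker_qd_V, hq2] at hqv
    rw [e42] at hc
    rw [ev_V_one] at e40
    have hd56 : finrank (AlgebraicClosure F) (D1 → AlgebraicClosure F) = 56 := by
      rw [Module.finrank_fintype_fun_eq_card]
      decide +kernel
    rw [hd56] at hdim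
    obtain ⟨r1, r2, r3⟩ := nums hP hQ hdim h2 h4 hc h5 e40 rfl hQ0 hS (by omega) (by omega)
    rw [h2, ← h2b] at r3
    rcases r3 with ⟨r3, ⟨r4, r5⟩ | ⟨r4, r5⟩⟩ | ⟨r3, ⟨r4, r5⟩ | ⟨r4, r5⟩⟩
    · exact ⟨τ, Or.inl ⟨ha, hb, hτ, r3, r1, r2, by rw [hq1, r4], by rw [hq2, r5]⟩⟩
    · exact ⟨-1 - τ, Or.inl ⟨ha, hb, by linear_combination hτ, r3, r1, r2, by rw [hq2, r5],
        by rw [show (-1 : F) - (-1 - τ) = τ by ring, hq1, r4]⟩⟩
    · exact ⟨τ, Or.inr ⟨ha, hb, hτ, r3, r1, r2, by rw [hq1, r4], by rw [hq2, r5]⟩⟩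
    · exact ⟨-1 - τ, Or.inr ⟨ha, hb, by linear_combination hτ, r3, r1, r2, by rw [hq2, r5],
        by rw [show (-1 : F) - (-1 - τ) = τ by ring, hq1, r4]⟩⟩

end

end Cfsg.Agent.R2.T1.N6L
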