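import Cfsg.Agent.S0254
import Cfsg.Agent.R2.H28.SL2.CF

/-!
# S5929, n = 6, p = 3: `SL(2, 9)` and `A₆` (helper11)

* `exists_pi` : `π : SL(2, 9) → A₆`, surjective with kernel `{±1}`;
* `exists_ss` : an element of order prime to 3 is semisimple;
* `lift2`, `lift4`, `lift5` : preimages of the elements of order 2, 4, 5.
-/

set_option autoImplicit false
set_option linter.unusedSectionVars false

namespace Cfsg.Agent.R2.T1.N6L

open Matrix Cfsg.Agent.H943.SL2Rel Cfsg.Agent.H943.SL2Mod Cfsg.Agent.H943.RepAdd Cfsg.Agent.R2.H28.SL2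
open Cfsg.Agent.H179.SLC (IsSS isSS_of_trace)

universe u v w

section pi
variable {F : Type w} [Field F] [Fintype F]

theorem two_ne (hF : Fintype.card F = 9) : (2 : F) ≠ 0 := by
  intro h
  have h1 : ((Fintype.card F : ℕ) : F) = 0 := FiniteField.cast_card_eq_zero F
  rw [hF] at h1
  have h2 : (1 : F) = 0 := by
    push_cast at h1
    linear_combination h1 - 4 * h
  exact one_ne_zero h2

theorem exists_pi (hF : Fintype.card F = 9) : ∃ π : SpecialLinearGroup (Fin 2) F →* ↥(alternatingGroup (Fin 6)),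
    Function.Surjective π ∧ ∀ g, π g = 1 ↔ g = 1 ∨ g = -1 := by
  obtain ⟨e⟩ := Cfsg.Agent.S0254.result hF
  refine ⟨(e : ProjectiveSpecialLinearGroup (Fin 2) F →* ↥(alternatingGroup (Fin 6))).comp
    (QuotientGroup.mk' (Subgroup.center (SpecialLinearGroup (Fin 2) F))), ?_, fun g => ?_⟩
  · intro y
    obtain ⟨x, rfl⟩ := e.surjective y
    obtain ⟨g, rfl⟩ := QuotientGroup.mk'_surjective _ x
    exact ⟨g, rfl⟩
  have h1 : ((e : ProjectiveSpecialLinearGroup (Fin 2) F →* ↥(alternatingGroup (Fin 6))).comp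
      (QuotientGroup.mk' (Subgroup.center (SpecialLinearGroup (Fin 2) F)))) g = 1 ↔
      g ∈ Subgroup.center (SpecialLinearGroup (Fin 2) F) := by
    rw [MonoidHom.comp_apply, MonoidHom.coe_coe, map_eq_one_iff e e.injective]
    exact QuotientGroup.eq_one_iff g
  rw [h1, Matrix.SpecialLinearGroup.mem_center_iff]
  constructor
  · rintro ⟨r, hr, hg⟩
    rw [Fintype.card_fin] at hr
    have h2 : (r - 1) * (r + 1) = 0 := by linear_combination hr
    rcases mul_eq_zero.1 h2 with h3 | h3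
    · left
      apply Subtype.ext
      rw [← hg, sub_eq_zero.1 h3]
      simp
    · right
      apply Subtype.ext
      rw [← hg, eq_neg_of_add_eq_zero_left h3]
      ext i j
      fin_cases i <;> fin_cases j <;> simp
  · rintro (rfl | rfl)
    · exact ⟨1, by simp, by simp⟩
    · refine ⟨-1, by simp, ?_⟩
      ext i j
      fin_cases i <;> fin_cases j <;> simp

/-- involutions -/
theorem sq_one (h2 : (2 : F) ≠ 0) {g : SpecialLinearGroup (Fin 2) F} (hg : g * g = 1) : g = 1 ∨ g = -1 := by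
  have hdet := g.2
  rw [Matrix.det_fin_two] at hdet
  have h := congrArg Subtype.val hg
  rw [Matrix.SpecialLinearGroup.coe_mul, Matrix.SpecialLinearGroup.coe_one] at h
  have e00 : g.1 0 0 * g.1 0 0 + g.1 0 1 * g.1 1 0 = 1 := by
    have := congrFun (congrFun h 0) 0
    simpa [Matrix.mul_apply, Fin.sum_univ_two] using this
  have e01 : g.1 0 0 * g.1 0 1 + g.1 0 1 * g.1 1 1 = 0 := by
    have := congrFun (congrFun h 0) 1
    simpa [Matrix.mul_apply, Fin.sum_univ_two] using this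
  have e10 : g.1 1 0 * g.1 0 0 + g.1 1 1 * g.1 1 0 = 0 := by
    have := congrFun (congrFun h 1) 0
    simpa [Matrix.mul_apply, Fin.sum_univ_two] using this
  have e11 : g.1 1 0 * g.1 0 1 + g.1 1 1 * g.1 1 1 = 1 := by
    have := congrFun (congrFun h 1) 1
    simpa [Matrix.mul_apply, Fin.sum_univ_two] using this
  have hs : g.1 0 0 + g.1 1 1 ≠ 0 := by
    intro hs
    apply h2
    have h3 : g.1 1 1 = -g.1 0 0 := eq_neg_of_add_eq_zero_right hs
    rw [h3] at hdet
    linear_combination (-1 : F) * hdet - e00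
  have h01 : g.1 0 1 = 0 := by
    have : g.1 0 1 * (g.1 0 0 + g.1 1 1) = 0 := by linear_combination e01
    exact (mul_eq_zero.1 this).resolve_right hs
  have h10 : g.1 1 0 = 0 := by
    have : g.1 1 0 * (g.1 0 0 + g.1 1 1) = 0 := by linear_combination e10
    exact (mul_eq_zero.1 this).resolve_right hs
  rw [h01, h10] at hdet
  rw [h01, h10] at e00
  have h3 : (g.1 0 0 - 1) * (g.1 0 0 + 1) = 0 := by linear_combination e00
  rcases mul_eq_zero.1 h3 with h4 | h4
  · left
    have h5 := sub_eq_zero.1 h4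
    rw [h5] at hdet
    apply Subtype.ext
    rw [Matrix.SpecialLinearGroup.coe_one]
    ext i j
    fin_cases i <;> fin_cases j
    · simpa using h5
    · simpa using h01
    · simpa using h10
    · simpa using hdet
  · right
    have h5 := eq_neg_of_add_eq_zero_left h4
    rw [h5] at hdet
    have h6 : g.1 1 1 = -1 := by linear_combination (-1 : F) * hdet
    apply Subtype.ext
    rw [Matrix.SpecialLinearGroup.coe_neg, Matrix.SpecialLinearGroup.coe_one]
    ext i j
    fin_cases i <;> fin_cases j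
    · simpa using h5
    · simpa using h01
    · simpa using h10
    · simpa using h6

/-- Cayley-Hamilton -/
theorem ch2 (g : SpecialLinearGroup (Fin 2) F) :
    g.1 * g.1 = (g.1 0 0 + g.1 1 1) • g.1 - 1 := by
  have hdet := g.2
  rw [Matrix.det_fin_two] at hdet
  ext i j
  fin_cases i <;> fin_cases j <;> simp [Matrix.mul_apply, Fin.sum_univ_two] <;>
    first | ring1 | linear_combination (-1 : F) * hdet | linear_combination hdet

end pi

section ss

variable {k : Type u} [Field k] [IsAlgClosed k] [CharP k 3] {F : Type w} [Field F] [Fintype F] [DecidableEq F]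
  (ι : F →+* k)

/-- elements of order prime to 3 are semisimple -/
theorem exists_ss (hF : Fintype.card F = 9) {g : SpecialLinearGroup (Fin 2) F} {N : ℕ} (hN : g ^ N = 1)
    (h3 : N.Coprime 3) (h1 : g ≠ 1) (h1' : g ≠ -1) : ∃ ζ : k, IsSS ι g ζ := by
  have h2 := two_ne hF
  have h30 : (3 : F) = 0 := by
    apply ι.injective
    rw [map_zero, map_ofNat]
    exact_mod_cast CharP.cast_eq_zero k 3
  set t : F := g.1 0 0 + g.1 1 1 with ht
  obtain ⟨ζ, hζ⟩ := IsAlgClosed.exists_root (Polynomial.X ^ 2 - Polynomial.C (ι t) * Polynomial.X + 1 : Polynomial k) (by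
    have : (Polynomial.X ^ 2 - Polynomial.C (ι t) * Polynomial.X + 1 : Polynomial k).degree = 2 := by
      compute_degree!
    rw [this]
    norm_num)
  have hζ' : ζ ^ 2 - ι t * ζ + 1 = 0 := by
    have := hζ
    rw [Polynomial.IsRoot.def] at this
    simpa using this
  have hζ0 : ζ ≠ 0 := by
    rintro rfl
    simp at hζ'
  have htr : ι t = ζ + ζ⁻¹ := by
    field_simp
    linear_combination (-1 : k) * hζ'
  by_cases hne : ζ = ζ⁻¹
  · exfalso
    have hsq : ζ * ζ = 1 := by
      nth_rewrite 2 [hne]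
      exact mul_inv_cancel₀ hζ0
    -- `t = 2 ε`
    obtain ⟨ε, hε, hεt⟩ : ∃ ε : F, ε * ε = 1 ∧ t = 2 * ε := by
      have h4 : (ζ - 1) * (ζ + 1) = 0 := by linear_combination hsq
      rcases mul_eq_zero.1 h4 with h5 | h5
      · refine ⟨1, by ring, ι.injective ?_⟩
        rw [htr, ← hne, sub_eq_zero.1 h5, map_mul, map_ofNat, map_one]
        ring
      · refine ⟨-1, by ring, ι.injective ?_⟩
        rw [htr, ← hne, eq_neg_of_add_eq_zero_left h5, map_mul, map_ofNat, map_neg, map_one]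
        ring
    have hch := ch2 g
    rw [← ht, hεt] at hch
    have hcube : g.1 * g.1 * g.1 = ε • (1 : Matrix (Fin 2) (Fin 2) F) := by
      rw [hch, sub_mul, one_mul, smul_mul_assoc, hch, smul_sub, smul_smul]
      have h5 : 2 * ε * (2 * ε) = 1 := by linear_combination (4 : F) * hε + h30
      have h6 : -(2 * ε) = ε := by linear_combination (-ε) * h30
      rw [h5, one_smul, sub_right_comm, sub_self, zero_sub, ← neg_smul, h6]
    have hg6 : g ^ 6 = 1 := by
      apply Subtype.ext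
      rw [Matrix.SpecialLinearGroup.coe_pow, Matrix.SpecialLinearGroup.coe_one]
      calc g.1 ^ 6 = (g.1 * g.1 * g.1) * (g.1 * g.1 * g.1) := by noncomm_ring
        _ = 1 := by rw [hcube, smul_mul_smul_comm, hε, one_mul, one_smul]
    have hg2 : g ^ 2 = 1 := by
      have h7 : orderOf g ∣ 6 := orderOf_dvd_of_pow_eq_one hg6
      have h8 : orderOf g ∣ N := orderOf_dvd_of_pow_eq_one hN
      have h9 : (orderOf g).Coprime 3 := Nat.Coprime.coprime_dvd_left h8 h3
      have h10 : orderOf g ∣ 2 := by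
        have : orderOf g ∣ 2 * 3 := h7
        exact Nat.Coprime.dvd_of_dvd_mul_right h9 this
      exact orderOf_dvd_iff_pow_eq_one.1 h10
    rw [pow_two] at hg2
    rcases sq_one h2 hg2 with h | h
    · exact h1 h
    · exact h1' h
  · exact ⟨ζ, isSS_of_trace ι hζ0 htr hne⟩

theorem ss_pow {g : SpecialLinearGroup (Fin 2) F} {ζ : k} (hg : IsSS ι g ζ) {N : ℕ} (hN : g ^ N = 1) : ζ ^ N = 1 := by
  have h1 := hg.pow ι N
  rw [hN] at h1
  obtain ⟨v₁, v₂, e1, -, hD⟩ := h1
  have h2 : v₁ = ζ ^ N • v₁ := by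
    rw [← e1, Matrix.SpecialLinearGroup.coe_one, Matrix.map_one ι ι.map_zero ι.map_one, Matrix.one_mulVec]
  have hv : v₁ ≠ 0 := by
    rintro rfl
    apply hD
    simp
  have h3 : (1 - ζ ^ N) • v₁ = 0 := by rw [sub_smul, one_smul, ← h2, sub_self]
  exact (sub_eq_zero.1 ((smul_eq_zero.1 h3).resolve_right hv)).symm

theorem ss_neg {g : SpecialLinearGroup (Fin 2) F} {ζ : k} (hg : IsSS ι g ζ) {N : ℕ} (hN : g ^ N = -1) : ζ ^ N = -1 := by
  have h1 := hg.pow ι N
  rw [hN] at h1
  obtain ⟨v₁, v₂, e1, -, hD⟩ := h1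
  have h2 : -v₁ = ζ ^ N • v₁ := by
    rw [← e1, Matrix.SpecialLinearGroup.coe_neg, Matrix.SpecialLinearGroup.coe_one]
    have h4 : (-1 : Matrix (Fin 2) (Fin 2) F).map ι = -1 := by
      ext i j
      fin_cases i <;> fin_cases j <;> simp
    rw [h4, Matrix.neg_mulVec, Matrix.one_mulVec]
  have hv : v₁ ≠ 0 := by
    rintro rfl
    apply hD
    simp
  have h3 : (-1 - ζ ^ N) • v₁ = 0 := by rw [sub_smul, neg_smul, one_smul, ← h2, sub_self]
  exact (sub_eq_zero.1 ((smul_eq_zero.1 h3).resolve_right hv)).symm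

end ss

section lift

variable {k : Type u} [Field k] [IsAlgClosed k] [CharP k 3] {F : Type w} [Field F] [Fintype F] [DecidableEq F]
  (ι : F →+* k) (hF : Fintype.card F = 9) {π : SpecialLinearGroup (Fin 2) F →* ↥(alternatingGroup (Fin 6))}
  (hs : Function.Surjective π) (hk : ∀ g, π g = 1 ↔ g = 1 ∨ g = -1)

include hF hs hk in
/-- elements of order 2 -/
theorem lift2 {x : ↥(alternatingGroup (Fin 6))} (hx : orderOf x = 2) :
    ∃ (g : SpecialLinearGroup (Fin 2) F) (ζ : k), π g = x ∧ IsSS ι g ζ ∧ IsPrimitiveRoot ζ 4 := by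
  have h2 := two_ne hF
  obtain ⟨g, rfl⟩ := hs x
  have hk2 : (2 : k) ≠ 0 := by rw [← map_ofNat ι 2]; exact (map_ne_zero ι).2 h2
  have hg1 : π g ≠ 1 := by
    intro h
    rw [h, orderOf_one] at hx
    omega
  have hgg : g * g = -1 := by
    have h3 : π (g * g) = 1 := by
      have h0 := pow_orderOf_eq_one (π g)
      rw [hx, pow_two] at h0
      rw [map_mul, h0]
    rcases (hk _).1 h3 with h4 | h4
    · exact absurd ((hk g).2 (sq_one h2 h4)) hg1
    · exact h4
  have hg4 : g ^ 4 = 1 := by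
    rw [show 4 = 2 + 2 by norm_num, pow_add, pow_two, hgg, neg_mul_neg, one_mul]
  obtain ⟨ζ, hζ⟩ := exists_ss ι hF hg4 (by norm_num) (fun h => hg1 ((hk g).2 (Or.inl h)))
    (fun h => hg1 ((hk g).2 (Or.inr h)))
  refine ⟨g, ζ, rfl, hζ, ?_⟩
  have h5 : ζ ^ 2 = -1 := ss_neg ι hζ (by rw [pow_two, hgg])
  refine IsPrimitiveRoot.mk_of_lt _ (by norm_num) (by rw [show 4 = 2 * 2 by norm_num, pow_mul, h5]; ring) ?_
  intro l hl hl4 h6
  interval_cases l
  · rw [pow_one] at h6
    rw [h6] at h5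
    apply hk2
    linear_combination h5
  · rw [h5] at h6
    apply hk2
    linear_combination (-1 : k) * h6
  · have h7 : ζ = -1 := by
      have : ζ ^ 3 = ζ ^ 2 * ζ := by ring
      rw [this, h5] at h6
      linear_combination (-1 : k) * h6
    rw [h7] at h5
    apply hk2
    linear_combination h5

include hF hs hk in
/-- elements of order 4 -/
theorem lift4 {x : ↥(alternatingGroup (Fin 6))} (hx : orderOf x = 4) :
    ∃ (g : SpecialLinearGroup (Fin 2) F) (ζ : k), π g = x ∧ IsSS ι g ζ ∧ IsPrimitiveRoot ζ 8 := by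
  have h2 := two_ne hF
  obtain ⟨g, rfl⟩ := hs x
  have hk2 : (2 : k) ≠ 0 := by rw [← map_ofNat ι 2]; exact (map_ne_zero ι).2 h2
  have hg2 : π (g * g) ≠ 1 := by
    intro h
    rw [map_mul, ← pow_two] at h
    have := orderOf_dvd_of_pow_eq_one h
    rw [hx] at this
    omega
  have hgg : (g * g) * (g * g) = -1 := by
    have h3 : π ((g * g) * (g * g)) = 1 := by
      have h0 := pow_orderOf_eq_one (π g)
      rw [hx] at h0
      rw [show (g * g) * (g * g) = g ^ 4 by simp only [pow_succ, pow_zero, one_mul, mul_assoc], map_pow, h0]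
    rcases (hk _).1 h3 with h4 | h4
    · exact absurd ((hk (g * g)).2 (sq_one h2 h4)) hg2
    · exact h4
  have hg4 : g ^ 4 = -1 := by rw [← hgg]; simp only [pow_succ, pow_zero, one_mul, mul_assoc]
  have hg8 : g ^ 8 = 1 := by
    rw [show 8 = 4 + 4 by norm_num, pow_add, hg4, neg_mul_neg, one_mul]
  have hg1 : π g ≠ 1 := fun h => hg2 (by rw [map_mul, h, one_mul])
  obtain ⟨ζ, hζ⟩ := exists_ss ι hF hg8 (by norm_num) (fun h => hg1 ((hk g).2 (Or.inl h)))
    (fun h => hg1 ((hk g).2 (Or.inr h)))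
  refine ⟨g, ζ, rfl, hζ, ?_⟩
  have h5 : ζ ^ 4 = -1 := ss_neg ι hζ hg4
  have h8 : ζ ^ 8 = 1 := by rw [show 8 = 4 * 2 by norm_num, pow_mul, h5]; ring
  have h9 : orderOf ζ = 2 ^ (2 + 1) := orderOf_eq_prime_pow (by
    rw [show 2 ^ 2 = 4 by norm_num, h5]
    intro h
    apply hk2
    linear_combination (-1 : k) * h) (by rw [show 2 ^ (2 + 1) = 8 by norm_num]; exact h8)
  rw [show (8 : ℕ) = 2 ^ (2 + 1) by norm_num, ← h9]
  exact IsPrimitiveRoot.orderOf ζ

include hF hs hk in
/-- elements of order 5 -/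
theorem lift5 {x : ↥(alternatingGroup (Fin 6))} (hx : orderOf x = 5) :
    ∃ (g : SpecialLinearGroup (Fin 2) F) (ζ : k), π g = x ∧ IsSS ι g ζ ∧ IsPrimitiveRoot ζ 5 := by
  have h2 := two_ne hF
  have key : ∃ g, π g = x ∧ g ^ 5 = 1 := by
    obtain ⟨g, hg⟩ := hs x
    have h3 : π (g ^ 5) = 1 := by
      have h0 := pow_orderOf_eq_one x
      rw [hx] at h0
      rw [map_pow, hg, h0]
    rcases (hk _).1 h3 with h4 | h4
    · exact ⟨g, hg, h4⟩
    · refine ⟨-g, ?_, ?_⟩
      · rw [← hg, ← neg_one_mul g, map_mul, (hk (-1)).2 (Or.inr rfl), one_mul]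
      · rw [Odd.neg_pow (by decide), h4, neg_neg]
  obtain ⟨g, rfl, hg5⟩ := key
  have hg1 : π g ≠ 1 := by
    intro h
    rw [h, orderOf_one] at hx
    omega
  obtain ⟨ζ, hζ⟩ := exists_ss ι hF hg5 (by norm_num) (fun h => hg1 ((hk g).2 (Or.inl h)))
    (fun h => hg1 ((hk g).2 (Or.inr h)))
  refine ⟨g, ζ, rfl, hζ, ?_⟩
  have h5 : ζ ^ 5 = 1 := ss_pow ι hζ hg5
  have hne : ζ ≠ 1 := by
    rintro rfl
    exact hg1 ((hk g).2 (Or.inl (hζ.eq_one ι ι.injective)))
  have h6 : orderOf ζ = 5 := by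
    have : Fact (Nat.Prime 5) := ⟨by norm_num⟩
    exact orderOf_eq_prime h5 hne
  rw [← h6]
  exact IsPrimitiveRoot.orderOf ζ

end lift

end Cfsg.Agent.R2.T1.N6L
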