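import Cfsg.Agent.R2.H28.SL2.ExtH
import Cfsg.Agent.R2.H28.SL2.SPres
import Cfsg.Agent.R2.H28.SL2.Bas

/-!
# S5929, n = 6, p = 3: `SL(2, 9)` in characteristic 3 (helper11)

* `Aw ι ρ c e` : the vectors fixed by `U` of weight `c` with `D_e w x = 0`; for `(c, e) = (6, 1), (2, 3)` it is
  `Hom(V_c, M)`;
* `w_Dm` : `w D_m w x = (-1) ^ m D_(c - m) w x`;
* `press6` : `[M : V_6] ≤ dim Aw + [M : V_4]` if all factors of `M` are `V_0`, `V_2`, `V_4`, `V_6`.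
-/

set_option autoImplicit false
set_option linter.unusedSectionVars false

namespace Cfsg.Agent.R2.T1.N6L

open Matrix Cfsg.Agent.H943.SL2Rel Cfsg.Agent.H943.SL2Mod Cfsg.Agent.H943.RepAdd Cfsg.Agent.R2.H28.SL2

universe u v w

section Gen

variable {k : Type u} [Field k] {F : Type w} [Field F] [Fintype F] [DecidableEq F] (ι : F →+* k)
variable {V : Type*} [AddCommGroup V] [Module k V] (ρ : Representation k (SpecialLinearGroup (Fin 2) F) V)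

/-- vectors fixed by `U` of weight `c` -/
def Fw (c : ℕ) : Submodule k V where
  carrier := {x | (∀ t, ρ (u t) x = x) ∧ ∀ a : Fˣ, ρ (h a) x = ι a ^ c • x}
  zero_mem' := ⟨fun t => map_zero _, fun a => by rw [map_zero, smul_zero]⟩
  add_mem' := by
    rintro x y ⟨h1, h2⟩ ⟨h4, h5⟩
    exact ⟨fun t => by rw [map_add, h1, h4], fun a => by rw [map_add, h2, h5, smul_add]⟩
  smul_mem' := by
    rintro r x ⟨h1, h2⟩
    exact ⟨fun t => by rw [map_smul, h1], fun a => by rw [map_smul, h2, smul_comm]⟩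

theorem mem_Fw {c : ℕ} {x : V} : x ∈ Fw ι ρ c ↔ (∀ t, ρ (u t) x = x) ∧ ∀ a : Fˣ, ρ (h a) x = ι a ^ c • x := Iff.rfl

/-- highest weight vectors killed by `D_e w` -/
def Aw (c e : ℕ) : Submodule k V := Fw ι ρ c ⊓ LinearMap.ker ((Dm ι ρ e) ∘ₗ (ρ w))

theorem mem_Aw {c e : ℕ} {x : V} : x ∈ Aw ι ρ c e ↔ x ∈ Fw ι ρ c ∧ Dm ι ρ e (ρ w x) = 0 := Iff.rfl

/-- equivariant maps -/
theorem Fw_map {V' : Type*} [AddCommGroup V'] [Module k V'] (ρ' : Representation k (SpecialLinearGroup (Fin 2) F) V')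
    (f : V →ₗ[k] V') (hf : ∀ g x, f (ρ g x) = ρ' g (f x)) {c : ℕ} {x : V} (hx : x ∈ Fw ι ρ c) : f x ∈ Fw ι ρ' c :=
  ⟨fun t => by rw [← hf, hx.1], fun a => by rw [← hf, hx.2, map_smul]⟩

theorem Aw_map {V' : Type*} [AddCommGroup V'] [Module k V'] (ρ' : Representation k (SpecialLinearGroup (Fin 2) F) V')
    (f : V →ₗ[k] V') (hf : ∀ g x, f (ρ g x) = ρ' g (f x)) {c e : ℕ} {x : V} (hx : x ∈ Aw ι ρ c e) :
    f x ∈ Aw ι ρ' c e := by
  refine ⟨Fw_map ι ρ ρ' f hf hx.1, ?_⟩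
  show Dm ι ρ' e (ρ' w (f x)) = 0
  rw [← hf, ← Dm_comm ι ρ ρ' f hf, ((mem_Aw ι ρ).1 hx).2, map_zero]

theorem Aw_map_iff {V' : Type*} [AddCommGroup V'] [Module k V'] (ρ' : Representation k (SpecialLinearGroup (Fin 2) F) V')
    (f : V →ₗ[k] V') (hf : ∀ g x, f (ρ g x) = ρ' g (f x)) (hi : Function.Injective f) {c e : ℕ} {x : V}
    (hx : f x ∈ Aw ι ρ' c e) : x ∈ Aw ι ρ c e := by
  refine ⟨⟨fun t => hi ?_, fun a => hi ?_⟩, ?_⟩
  · rw [hf, hx.1.1]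
  · rw [hf, hx.1.2, map_smul]
  · show Dm ι ρ e (ρ w x) = 0
    apply hi
    rw [Dm_comm ι ρ ρ' f hf, hf, ((mem_Aw ι ρ').1 hx).2, map_zero]

/-- `w D_m w x = (-1) ^ m D_(c - m) w x` -/
theorem w_Dm {c m : ℕ} (hm : 1 ≤ m) (hmc : m < c) (hc : c ≤ Fintype.card F - 1) (hev : Even (Fintype.card F - 1)) {x : V}
    (hx : x ∈ Fw ι ρ c) : ρ w (Dm ι ρ m (ρ w x)) = (-1 : k) ^ m • Dm ι ρ (c - m) (ρ w x) := by
  classical
  have hq := one_lt (F := F)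
  obtain ⟨Q, hQ⟩ : ∃ Q, Q = Fintype.card F - 1 := ⟨_, rfl⟩
  rw [Dm_apply, Dm_apply, map_neg, map_sum, smul_neg, Finset.smul_sum]
  congr 1
  rw [← hQ] at hc hev ⊢
  -- the terms
  have hterm : ∀ t : F, t ≠ 0 → ρ w (ι t ^ (Q - m) • ρ (u t) (ρ w x)) =
      (-1 : k) ^ m • ι (-t⁻¹) ^ (Q - (c - m)) • ρ (u (-t⁻¹)) (ρ w x) := by
    intro t ht
    have hs : (-t⁻¹ : F) ≠ 0 := neg_ne_zero.2 (inv_ne_zero ht)
    have hιs : ι (-t⁻¹) ≠ 0 := (map_ne_zero ι).2 hs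
    have e1 : ρ w (ρ (u t) (ρ w x)) = ρ (u (-t⁻¹)) (ρ (h (mi t ht)) (ρ w x)) := by
      rw [apply_mul3, w_u_w t ht, map_mul, map_mul, map_mul]
      show ρ (u (-t⁻¹)) (ρ (h (mi t ht)) (ρ w (ρ (u (-t⁻¹)) x))) = _
      rw [hx.1]
    have e2 : ρ (h (mi t ht)) (ρ w x) = ι (-t⁻¹) ^ (Q - c) • ρ w x := by
      rw [apply_mul, h_w, ← apply_mul, hx.2, map_smul]
      congr 1
      have e3 : ι (((mi t ht)⁻¹ : Fˣ) : F) = (ι (-t⁻¹))⁻¹ := by
        rw [Units.val_inv_eq_inv_val, map_inv₀]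
        rfl
      rw [e3, inv_pow]
      apply inv_eq_of_mul_eq_one_left
      rw [← pow_add, show Q - c + c = Q by omega, hQ, powQ ι hs]
    rw [map_smul, e1, e2, map_smul, smul_smul, smul_smul]
    congr 1
    have e4 : ι t = -(ι (-t⁻¹))⁻¹ := by
      rw [map_neg, map_inv₀, neg_inv, neg_neg, inv_inv]
    have e5 : ι t ^ (Q - m) = (-1) ^ (Q - m) * ι (-t⁻¹) ^ m := by
      rw [e4, neg_pow, inv_pow]
      congr 1
      apply inv_eq_of_mul_eq_one_left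
      rw [← pow_add, show m + (Q - m) = Q by omega, hQ, powQ ι hs]
    rw [e5, mul_assoc, ← pow_add]
    have e6 : (-1 : k) ^ (Q - m) = (-1) ^ m := by
      have h1 : (-1 : k) ^ (Q - m) * (-1) ^ m = 1 := by rw [← pow_add, Nat.sub_add_cancel (by omega), hev.neg_one_pow]
      have h2 : (-1 : k) ^ m * (-1) ^ m = 1 := by rw [← mul_pow]; norm_num
      calc (-1 : k) ^ (Q - m) = (-1 : k) ^ (Q - m) * ((-1) ^ m * (-1) ^ m) := by rw [h2, mul_one]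
        _ = (-1) ^ m := by rw [← mul_assoc, h1, one_mul]
    rw [e6, show m + (Q - c) = Q - (c - m) by omega]
  -- the sums
  have hsum : ∀ f : F → V, f 0 = 0 → ∑ t : F, f t = ∑ t ∈ Finset.univ.erase (0 : F), f t := fun f h0 => by
    rw [← Finset.add_sum_erase _ f (Finset.mem_univ 0), h0, zero_add]
  rw [hsum _ (by rw [map_zero, zero_pow (by omega), zero_smul, map_zero]),
    hsum (fun t => (-1 : k) ^ m • ι t ^ (Q - (c - m)) • ρ (u t) (ρ w x))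
      (by show (-1 : k) ^ m • ι (0 : F) ^ (Q - (c - m)) • ρ (u 0) (ρ w x) = 0
          rw [map_zero, zero_pow (by omega), zero_smul, smul_zero])]
  refine Finset.sum_nbij' (fun t => -t⁻¹) (fun t => -t⁻¹) ?_ ?_ ?_ ?_ ?_
  · intro t ht
    rw [Finset.mem_erase] at ht ⊢
    exact ⟨neg_ne_zero.2 (inv_ne_zero ht.1), Finset.mem_univ _⟩
  · intro t ht
    rw [Finset.mem_erase] at ht ⊢
    exact ⟨neg_ne_zero.2 (inv_ne_zero ht.1), Finset.mem_univ _⟩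
  · intro t _
    simp
  · intro t _
    simp
  · intro t ht
    exact hterm t (Finset.mem_erase.1 ht).1

end Gen

end Cfsg.Agent.R2.T1.N6L
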