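import Cfsg.Agent.R2.T1.N6L.Pr

/-!
# S5929, n = 6, p = 3: the pressure inequality for `V_6` (helper11)

`press6` : `[M : V_6] ≤ dim Aw + [M : V_4]` if all factors of `M` are `V_0`, `V_2`, `V_4`, `V_6`.
-/

set_option autoImplicit false
set_option linter.unusedSectionVars false

namespace Cfsg.Agent.R2.T1.N6L

open Matrix Cfsg.Agent.H943.SL2Rel Cfsg.Agent.H943.SL2Mod Cfsg.Agent.H943.RepAdd Cfsg.Agent.R2.H28.SL2

universe u v w

variable {k : Type u} [Field k] [DecidableEq k] {F : Type w} [Field F] [Fintype F] [DecidableEq F] (ι : F →+* k)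
variable [CharP k 3] [CharP F 3] (hF : Fintype.card F = 3 ^ 2)

/-- the arithmetic of a label with one digit `2` -/
def Ce (c e : ℕ) : Prop := c < 8 ∧ 1 ≤ e ∧ e ≤ 8 ∧ 3 ∣ c.choose e ∧ ∀ i < 2, c / 3 ^ i % 3 + 1 < 3 → en 3 c i = e

instance (c e : ℕ) : Decidable (Ce c e) := by unfold Ce; infer_instance

theorem ce6 : Ce 6 1 := by decide
theorem ce2 : Ce 2 3 := by decide

include hF in
theorem cardQ : Fintype.card F - 1 = 8 := by rw [hF]; rfl

section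
variable {V : Type*} [AddCommGroup V] [Module k V] (ρ : Representation k (SpecialLinearGroup (Fin 2) F) V)

include hF in
theorem SS_zero {c e : ℕ} (hce : Ce c e) {x : V} (hx : x ∈ Aw ι ρ c e) : SS ρ x = 0 := by
  have hQ := cardQ hF
  have h1 : Dm ι ρ 8 (ρ w x) = 0 := by
    refine Dm_zero_of ι 3 ρ hF (c := c) (y := ρ w x) (fun i hi hlt => ?_) (n := 8) (by rw [hQ]) ?_
    · rw [hce.2.2.2.2 i hi hlt]
      exact ((mem_Aw ι ρ).1 hx).2
    · rw [Nat.choose_eq_zero_of_lt hce.1]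
      exact dvd_zero 3
  rw [Dm_apply, neg_eq_zero] at h1
  rw [SS_apply, ← h1]
  refine Finset.sum_congr rfl fun t _ => ?_
  rw [hQ, Nat.sub_self, pow_zero, one_smul]

include hF in
theorem cb_zero {c : ℕ} (hc : c < 8) : cb k F c = 0 := by
  have hQ := cardQ hF
  unfold cb
  rw [if_pos (by omega)]

include hF in
/-- elements of `Aw` are images of highest weight vectors -/
theorem gen_Aw {V₁ : Type*} [AddCommGroup V₁] [Module k V₁] {σ : Representation k (SpecialLinearGroup (Fin 2) F) V₁}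
    {c e : ℕ} (hce : Ce c e) (hσ : IsV ι 3 σ c) {m : V₁} (hm0 : m ≠ 0)
    (hmu : ∀ t, σ (u t) m = m) {x : V} (hx : x ∈ Aw ι ρ c e) :
    ∃ f : V₁ →ₗ[k] V, (∀ g y, f (σ g y) = ρ g (f y)) ∧ f m = x := by
  refine gen_hw ι 3 ρ hF hσ hm0 hmu hx.1.1 hx.1.2 ?_ fun i hi hlt => ?_
  · rw [SS_zero ι hF ρ hce hx, cb_zero hF hce.1, zero_smul]
  · rw [hce.2.2.2.2 i hi hlt]
    exact ((mem_Aw ι ρ).1 hx).2

include hF in
/-- the highest weight vector belongs to `Aw` -/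
theorem hw_Aw {c e : ℕ} (hce : Ce c e) (h : IsV ι 3 ρ c) :
    ∃ m : V, m ≠ 0 ∧ m ∈ Aw ι ρ c e := by
  obtain ⟨m, hm0, hmu, hmh, -, hmD, -, -⟩ := h.hw2
  exact ⟨m, hm0, ⟨hmu, hmh⟩, hmD e hce.2.1 (by rw [cardQ hF]; exact hce.2.2.1) hce.2.2.2.1⟩

include hF in
/-- nonzero elements of `Aw` generate submodules `V_c` -/
theorem inSoc_of_Aw {c e : ℕ} (hce : Ce c e) {x : V} (hx : x ∈ Aw ι ρ c e) (hx0 : x ≠ 0) :
    ∃ (Z : Submodule k V) (hZ : ∀ g, ∀ y ∈ Z, ρ g y ∈ Z), IsV ι 3 (subRep ρ Z hZ) c ∧ x ∈ Z := by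
  have hQ := cardQ hF
  have hb : c ≤ Fintype.card F - 1 := by rw [hQ]; exact hce.1.le
  have hσ : IsV ι 3 (RB ι 3 hb) c := ⟨hb, LinearEquiv.refl k _, fun _ _ => rfl⟩
  obtain ⟨m, hm0, hmu, -, -⟩ := hσ.hw2
  obtain ⟨f, hf, hfm⟩ := gen_Aw ι hF ρ hce hσ hm0 hmu hx
  have hker : LinearMap.ker f = ⊥ := by
    rcases hσ.irr.2 (LinearMap.ker f) (fun g x hx => by
      rw [LinearMap.mem_ker] at hx ⊢
      rw [hf, hx, map_zero]) with h1 | h1
    · exact h1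
    · exfalso
      apply hx0
      rw [← hfm]
      have : m ∈ LinearMap.ker f := by rw [h1]; trivial
      exact this
  have hX : ∀ g, ∀ x ∈ LinearMap.range f, ρ g x ∈ LinearMap.range f := by
    rintro g _ ⟨y, rfl⟩
    exact ⟨_, hf g y⟩
  exact ⟨LinearMap.range f, hX, IsV.iso ι 3 (LinearEquiv.ofInjective f (LinearMap.ker_eq_bot.1 hker))
    (fun g y => Subtype.ext (hf g y)) hσ, m, hfm⟩

end

end Cfsg.Agent.R2.T1.N6L
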