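import Cfsg.Agent.R2.T1.N6L.Pr2

/-!
# S5929, n = 6, p = 3: the pressure inequality for `V_6` (helper11)

`press6` : `[M : V_6] ≤ dim Aw + [M : V_4]` if all factors of `M` are `V_0`, `V_2`, `V_4`, `V_6`.
-/

set_option autoImplicit false
set_option linter.unusedSectionVars false

namespace Cfsg.Agent.R2.T1.N6L

open Matrix Cfsg.Agent.H943.SL2Rel Cfsg.Agent.H943.SL2Mod Cfsg.Agent.H943.RepAdd Cfsg.Agent.R2.H28.SL2

universe u v w

section Lin
variable {k V V' : Type*} [Field k] [AddCommGroup V] [Module k V] [FiniteDimensional k V] [AddCommGroup V'] [Module k V']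
  [FiniteDimensional k V']

theorem lin1 {f : V →ₗ[k] V'} {B : Submodule k V} {A' : Submodule k V'} (h : A' ≤ B.map f) :
    Module.finrank k A' ≤ Module.finrank k B :=
  (Submodule.finrank_mono h).trans (Submodule.finrank_map_le f B)

theorem lin0 (f : V →ₗ[k] V') (B : Submodule k V) :
    Module.finrank k (B.map f) + Module.finrank k ↥(B ⊓ LinearMap.ker f) = Module.finrank k B := by
  have h1 := LinearMap.finrank_range_add_finrank_ker (f ∘ₗ B.subtype)
  have h2 : LinearMap.range (f ∘ₗ B.subtype) = B.map f := by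
    rw [LinearMap.range_comp, Submodule.range_subtype]
  have h3 : Module.finrank k (LinearMap.ker (f ∘ₗ B.subtype)) = Module.finrank k ↥(B ⊓ LinearMap.ker f) := by
    have h4 : (LinearMap.ker (f ∘ₗ B.subtype)).map B.subtype = B ⊓ LinearMap.ker f := by
      rw [LinearMap.ker_comp, Submodule.map_comap_subtype]
    rw [← h4]
    exact (Submodule.equivMapOfInjective B.subtype B.injective_subtype _).finrank_eq
  rw [h2, h3] at h1
  exact h1

theorem lin2 {f : V →ₗ[k] V'} {B : Submodule k V} {A' : Submodule k V'} (h : A' ≤ B.map f) {m : V} (hm : m ∈ B)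
    (hm0 : m ≠ 0) (hfm : f m = 0) : Module.finrank k A' + 1 ≤ Module.finrank k B := by
  rw [← lin0 f B]
  refine Nat.add_le_add (Submodule.finrank_mono h) ?_
  have h1 : Nontrivial ↥(B ⊓ LinearMap.ker f) := ⟨⟨⟨m, hm, hfm⟩, 0, fun h => hm0 (congrArg Subtype.val h)⟩⟩
  exact Module.finrank_pos

theorem lin3 (θ : V →ₗ[k] V') {B A : Submodule k V} (h1 : B ⊓ LinearMap.ker θ ≤ A) {v : V'}
    (h2 : B.map θ ≤ Submodule.span k {v}) : Module.finrank k B ≤ Module.finrank k A + 1 := by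
  rw [← lin0 θ B, add_comm]
  refine Nat.add_le_add (Submodule.finrank_mono h1) ((Submodule.finrank_mono h2).trans ?_)
  exact (finrank_span_le_card ({v} : Set V')).trans (by simp)

end Lin

variable {k : Type u} [Field k] [DecidableEq k] {F : Type w} [Field F] [Fintype F] [DecidableEq F] (ι : F →+* k)
variable [CharP k 3] [CharP F 3] (hF : Fintype.card F = 3 ^ 2)

section step
variable {V : Type*} [AddCommGroup V] [Module k V] (ρ : Representation k (SpecialLinearGroup (Fin 2) F) V)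
  {W : Submodule k V} (hW : ∀ g, ∀ x ∈ W, ρ g x ∈ W)

theorem A_le_B {c e : ℕ} : Aw ι ρ c e ≤ Fw ι ρ c ⊓ (Aw ι (quotRep ρ W hW) c e).comap W.mkQ := fun x hx =>
  ⟨hx.1, Aw_map ι ρ (quotRep ρ W hW) W.mkQ (fun g y => (quotRep_mk ρ W hW g y).symm) hx⟩

include hF in
/-- lifting -/
theorem lift_B {b c e : ℕ} (hb : IsV ι 3 (subRep ρ W hW) b)
    (hc : ∀ i < 2, b / 3 ^ i % 3 + 1 < 3 → (c + 2 * en 3 b i) % (3 ^ 2 - 1) ≠ b % (3 ^ 2 - 1)) :
    Aw ι (quotRep ρ W hW) c e ≤ (Fw ι ρ c ⊓ (Aw ι (quotRep ρ W hW) c e).comap W.mkQ).map W.mkQ := by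
  intro y hy
  obtain ⟨x, rfl⟩ := W.mkQ_surjective y
  have hmem : ∀ z : V, W.mkQ z = 0 → z ∈ W := fun z hz => (Submodule.Quotient.mk_eq_zero W).1 hz
  obtain ⟨x', h1, h2, h3⟩ := lift_one ι 3 ρ W hW hF hb hc (x := x)
    (fun t => hmem _ (by rw [map_sub, ← quotRep_mk ρ W hW, hy.1.1, sub_self]))
    (fun a => hmem _ (by rw [map_sub, ← quotRep_mk ρ W hW, hy.1.2, map_smul, sub_self]))
  have h4 : W.mkQ x' = W.mkQ x := by
    rw [← sub_eq_zero, ← map_sub]
    exact (Submodule.Quotient.mk_eq_zero W).2 h1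
  refine ⟨x', ⟨⟨h2, h3⟩, ?_⟩, h4⟩
  show W.mkQ x' ∈ Aw ι (quotRep ρ W hW) c e
  rw [h4]
  exact hy

theorem D_mem {c e : ℕ} {x : V} (hx : W.mkQ x ∈ Aw ι (quotRep ρ W hW) c e) : Dm ι ρ e (ρ w x) ∈ W := by
  apply (Submodule.Quotient.mk_eq_zero W).1
  have h1 := ((mem_Aw ι (quotRep ρ W hW)).1 hx).2
  rw [quotRep_mk, ← Dm_comm ι ρ (quotRep ρ W hW) W.mkQ (fun g y => (quotRep_mk ρ W hW g y).symm)] at h1
  exact h1

include hF in
/-- the weight of `D_e w x` -/
theorem D_wt {c e n : ℕ} (he : e ≤ 8) (hn : (n + c) % 8 = 2 * e % 8) {x : V} (hx : x ∈ Fw ι ρ c) (a : Fˣ) :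
    ρ (h a) (Dm ι ρ e (ρ w x)) = ι a ^ n • Dm ι ρ e (ρ w x) := by
  have hQ := cardQ hF
  have hιa : ι (a : F) ≠ 0 := (map_ne_zero ι).2 a.ne_zero
  rw [h_Dm ι ρ (by omega), apply_mul, h_w, ← apply_mul, hx.2, map_smul, map_smul, smul_smul]
  congr 1
  have h8 : ι (a : F) ^ 8 = 1 := by rw [← hQ]; exact powQ ι a.ne_zero
  have h3 : ι ((a⁻¹ : Fˣ) : F) * ι (a : F) = 1 := by
    rw [← map_mul, Units.val_inv_eq_inv_val, inv_mul_cancel₀ a.ne_zero, map_one]
  have hp : ∀ m : ℕ, ι (a : F) ^ m = ι (a : F) ^ (m % 8) := fun m => by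
    conv_lhs => rw [← Nat.div_add_mod m 8, pow_add, pow_mul, h8, one_pow, one_mul]
  have h4 : ι (a : F) ^ n * ι (a : F) ^ c = ι (a : F) ^ (2 * e) := by
    rw [← pow_add, hp (n + c), hn, ← hp]
  rw [← h4, mul_assoc, ← mul_pow, mul_comm (ι (a : F)), h3, one_pow, mul_one]

/-- the basis -/
noncomputable def bs {M : Type*} [AddCommGroup M] [Module k M] {σ : Representation k (SpecialLinearGroup (Fin 2) F) M}
    {b : ℕ} {v : ℕ → M} (hv : Bas ι σ b v) : Module.Basis (Bf k b) k M := Module.Basis.mk hv.li hv.sp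

theorem bs_apply {M : Type*} [AddCommGroup M] [Module k M] {σ : Representation k (SpecialLinearGroup (Fin 2) F) M}
    {b : ℕ} {v : ℕ → M} (hv : Bas ι σ b v) (m : Bf k b) : bs ι hv m = v m := Module.Basis.mk_apply _ _ _

include hF in
/-- the coordinates of a weight vector -/
theorem coord_zero {M : Type*} [AddCommGroup M] [Module k M] {σ : Representation k (SpecialLinearGroup (Fin 2) F) M}
    {b n : ℕ} {v : ℕ → M} (hv : Bas ι σ b v) {z : M} (hz : ∀ a, σ (h a) z = ι a ^ n • z) (m : Bf k b)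
    (hm : 2 * (m : ℕ) % 8 ≠ (b + n) % 8) : (bs ι hv).repr z m = 0 := by
  have hQ := cardQ hF
  obtain ⟨lam, hlam⟩ := IsCyclic.exists_generator (α := Fˣ)
  have hprim := primitive ι ι.injective hlam
  rw [hQ] at hprim
  by_contra hne
  have h5 : ((bs ι hv).coord m) ∘ₗ (σ (h lam)) =
      (ι (lam : F) ^ (m : ℕ) * (ι (lam : F))⁻¹ ^ (b - m)) • (bs ι hv).coord m := by
    refine (bs ι hv).ext fun j => ?_
    rw [LinearMap.comp_apply, LinearMap.smul_apply, Module.Basis.coord_apply, Module.Basis.coord_apply]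
    rw [bs_apply, hv.h j j.2, ← bs_apply ι hv, map_smul, Finsupp.smul_apply, Module.Basis.repr_self, smul_eq_mul,
      smul_eq_mul]
    by_cases hjm : j = m
    · rw [hjm]
    · rw [Finsupp.single_apply, if_neg hjm, mul_zero, mul_zero]
  have h7 : ((bs ι hv).coord m) (σ (h lam) z) = (ι (lam : F) ^ (m : ℕ) * (ι (lam : F))⁻¹ ^ (b - m)) * (bs ι hv).coord m z :=
    LinearMap.congr_fun h5 z
  rw [hz, map_smul, smul_eq_mul] at h7
  have h8 := mul_right_cancel₀ (b := (bs ι hv).coord m z) hne h7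
  obtain ⟨hmb, hmc⟩ := mem_Bf.1 m.2
  have hιa : ι (lam : F) ≠ 0 := (map_ne_zero ι).2 lam.ne_zero
  have h9 : ι (lam : F) ^ (b + n) = ι (lam : F) ^ (2 * (m : ℕ)) := by
    rw [pow_add, h8, two_mul, pow_add]
    have h10 : ι (lam : F) ^ (b - m) * (ι (lam : F))⁻¹ ^ (b - (m : ℕ)) = 1 := by
      rw [← mul_pow, mul_inv_cancel₀ hιa, one_pow]
    calc ι (lam : F) ^ b * (ι (lam : F) ^ (m : ℕ) * (ι (lam : F))⁻¹ ^ (b - (m : ℕ)))
        = ι (lam : F) ^ ((m : ℕ) + (b - m)) * (ι (lam : F) ^ (m : ℕ) * (ι (lam : F))⁻¹ ^ (b - (m : ℕ))) := by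
          rw [Nat.add_sub_cancel' hmb]
      _ = ι (lam : F) ^ (m : ℕ) * ι (lam : F) ^ (m : ℕ) * (ι (lam : F) ^ (b - m) * (ι (lam : F))⁻¹ ^ (b - (m : ℕ))) := by
          rw [pow_add]; ring
      _ = _ := by rw [h10, mul_one]
  have h11 := (hprim.isOfFinOrder (by omega)).pow_eq_pow_iff_modEq.1 h9
  rw [← hprim.eq_orderOf] at h11
  exact hm h11.symm

/-- no vectors of weight `n` -/
theorem no_wt {b n : ℕ} (hb : IsV ι 3 (subRep ρ W hW) b) (hF : Fintype.card F = 3 ^ 2)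
    (hn : ∀ m ≤ b, ¬ 3 ∣ b.choose m → 2 * m % 8 ≠ (b + n) % 8) {y : V} (hy : y ∈ W)
    (hh : ∀ a, ρ (h a) y = ι a ^ n • y) : y = 0 := by
  obtain ⟨v, hv⟩ := hb.bas
  have h2 : (⟨y, hy⟩ : W) = 0 := by
    apply (bs ι hv).repr.injective
    ext m
    obtain ⟨hmb, hmc⟩ := mem_Bf.1 m.2
    rw [coord_zero ι hF hv (z := ⟨y, hy⟩) (n := n) (fun a => Subtype.ext (hh a)) m
      (hn m hmb fun h12 => hmc ((CharP.cast_eq_zero_iff k 3 _).2 h12)), map_zero, Finsupp.zero_apply]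
  exact congrArg Subtype.val h2

include hF in
/-- the labels without the weight of `D_e w x` -/
theorem B_le_A {b c e n : ℕ} (hb : IsV ι 3 (subRep ρ W hW) b) (he : e ≤ 8) (hn : (n + c) % 8 = 2 * e % 8)
    (hn2 : ∀ m ≤ b, ¬ 3 ∣ b.choose m → 2 * m % 8 ≠ (b + n) % 8) :
    Fw ι ρ c ⊓ (Aw ι (quotRep ρ W hW) c e).comap W.mkQ ≤ Aw ι ρ c e := by
  rintro x ⟨hx1, hx2⟩
  exact ⟨hx1, no_wt ι ρ hW hb hF hn2 (D_mem ι ρ hW hx2) (D_wt ι hF ρ he hn hx1)⟩

theorem zero_mem_Bf (b : ℕ) : 0 ∈ Bf k b := by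
  rw [mem_Bf]
  exact ⟨Nat.zero_le _, by rw [Nat.choose_zero_right, Nat.cast_one]; exact one_ne_zero⟩

theorem self_mem_Bf (b : ℕ) : b ∈ Bf k b := by
  rw [mem_Bf]
  exact ⟨le_rfl, by rw [Nat.choose_self, Nat.cast_one]; exact one_ne_zero⟩

/-- the lowest coordinate is invariant under `U` -/
theorem coord_u {M : Type*} [AddCommGroup M] [Module k M] {σ : Representation k (SpecialLinearGroup (Fin 2) F) M}
    {b : ℕ} {v : ℕ → M} (hv : Bas ι σ b v) (t : F) (z : M) :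
    (bs ι hv).coord ⟨0, zero_mem_Bf b⟩ (σ (u t) z) = (bs ι hv).coord ⟨0, zero_mem_Bf b⟩ z := by
  have h1 : ((bs ι hv).coord ⟨0, zero_mem_Bf b⟩) ∘ₗ (σ (u t)) = (bs ι hv).coord ⟨0, zero_mem_Bf b⟩ := by
    refine (bs ι hv).ext fun j => ?_
    rw [LinearMap.comp_apply, bs_apply, hv.u j j.2, map_sum, Finset.sum_eq_single 0]
    · rw [Nat.choose_zero_right, pow_zero, Nat.cast_one, one_mul, one_smul, add_zero]
    · intro i hi hi0
      rw [map_smul]
      by_cases hmem : (j : ℕ) + i ∈ Bf k b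
      · have h2 : v ((j : ℕ) + i) = bs ι hv ⟨(j : ℕ) + i, hmem⟩ := (bs_apply ι hv ⟨(j : ℕ) + i, hmem⟩).symm
        rw [h2, Module.Basis.coord_apply, Module.Basis.repr_self, Finsupp.single_apply, if_neg, smul_zero]
        intro h3
        have h4 : (j : ℕ) + i = 0 := congrArg Subtype.val h3
        omega
      · rw [hv.zero _ hmem, map_zero, smul_zero]
    · intro hi
      exact absurd (Finset.mem_range.2 (Nat.succ_pos _)) hi
  exact LinearMap.congr_fun h1 z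

theorem coord_D {M : Type*} [AddCommGroup M] [Module k M] {σ : Representation k (SpecialLinearGroup (Fin 2) F) M}
    {b : ℕ} {v : ℕ → M} (hv : Bas ι σ b v) {n : ℕ} (hn : 1 ≤ n) (z : M) :
    (bs ι hv).coord ⟨0, zero_mem_Bf b⟩ (Dm ι σ n z) = 0 := by
  have hq := one_lt (F := F)
  rw [Dm_apply, map_neg, map_sum]
  have h1 : ∀ t : F, (bs ι hv).coord ⟨0, zero_mem_Bf b⟩ (ι t ^ (Fintype.card F - 1 - n) • σ (u t) z) =
      ι t ^ (Fintype.card F - 1 - n) * (bs ι hv).coord ⟨0, zero_mem_Bf b⟩ z := by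
    intro t
    rw [map_smul, coord_u, smul_eq_mul]
  rw [Finset.sum_congr rfl fun t _ => h1 t, ← Finset.sum_mul, psum ι (by omega), if_neg (by omega), zero_mul, neg_zero]

/-- the coordinates of `w z` -/
theorem coord_w {M : Type*} [AddCommGroup M] [Module k M] {σ : Representation k (SpecialLinearGroup (Fin 2) F) M}
    {b : ℕ} {v : ℕ → M} (hv : Bas ι σ b v) (z : M) :
    (bs ι hv).coord ⟨0, zero_mem_Bf b⟩ (σ w z) = (-1) ^ b * (bs ι hv).coord ⟨b, self_mem_Bf b⟩ z := by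
  have h1 : ((bs ι hv).coord ⟨0, zero_mem_Bf b⟩) ∘ₗ (σ w) = ((-1 : k) ^ b) • (bs ι hv).coord ⟨b, self_mem_Bf b⟩ := by
    refine (bs ι hv).ext fun j => ?_
    rw [LinearMap.comp_apply, LinearMap.smul_apply, bs_apply, hv.w j j.2, map_smul, ← bs_apply ι hv]
    obtain ⟨hjb, -⟩ := mem_Bf.1 j.2
    by_cases hj : (j : ℕ) = b
    · have h2 : v (b - (j : ℕ)) = bs ι hv ⟨0, zero_mem_Bf b⟩ := by rw [bs_apply, hj, Nat.sub_self]
      have h3 : j = ⟨b, self_mem_Bf b⟩ := Subtype.ext hj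
      rw [h2, Module.Basis.coord_apply, Module.Basis.coord_apply, Module.Basis.repr_self, Finsupp.single_eq_same, h3,
        Module.Basis.repr_self, Finsupp.single_eq_same]
    · have h3 : (bs ι hv).coord ⟨b, self_mem_Bf b⟩ (bs ι hv j) = 0 := by
        rw [Module.Basis.coord_apply, Module.Basis.repr_self, Finsupp.single_apply, if_neg]
        intro h4
        exact hj (congrArg Subtype.val h4)
      rw [h3, smul_zero]
      by_cases hmem : b - (j : ℕ) ∈ Bf k b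
      · have h2 : v (b - (j : ℕ)) = bs ι hv ⟨b - (j : ℕ), hmem⟩ := (bs_apply ι hv ⟨b - (j : ℕ), hmem⟩).symm
        rw [h2, Module.Basis.coord_apply, Module.Basis.repr_self, Finsupp.single_apply, if_neg, smul_zero]
        intro h4
        have h5 : b - (j : ℕ) = 0 := congrArg Subtype.val h4
        omega
      · rw [hv.zero _ hmem, map_zero, smul_zero]
  exact LinearMap.congr_fun h1 z

end step

end Cfsg.Agent.R2.T1.N6L
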