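import Cfsg.Agent.R2.T1.N6L.Pr3

/-!
# S5929, n = 6, p = 3: the pressure inequality for `V_6` (helper11)

`press6` : `[M : V_6] ≤ dim Aw + [M : V_4]` if all factors of `M` are `V_0`, `V_2`, `V_4`, `V_6`.
-/

set_option autoImplicit false
set_option linter.unusedSectionVars false

namespace Cfsg.Agent.R2.T1.N6L

open Matrix Cfsg.Agent.H943.SL2Rel Cfsg.Agent.H943.SL2Mod Cfsg.Agent.H943.RepAdd Cfsg.Agent.R2.H28.SL2

universe u v w

variable {k : Type u} [Field k] [DecidableEq k] {F : Type w} [Field F] [Fintype F] [DecidableEq F] (ι : F →+* k)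
variable [CharP k 3] [CharP F 3] (hF : Fintype.card F = 3 ^ 2)

section
variable {V : Type*} [AddCommGroup V] [Module k V] (ρ : Representation k (SpecialLinearGroup (Fin 2) F) V)
  {W : Submodule k V} (hW : ∀ g, ∀ x ∈ W, ρ g x ∈ W)

include hF in
/-- the relation -/
theorem rel6 {x : V} (hx : x ∈ Fw ι ρ 6) : ρ w (Dm ι ρ 1 (ρ w x)) = Dm ι ρ 4 (Dm ι ρ 1 (ρ w x)) := by
  have hQ := cardQ hF
  have h1 := w_Dm ι ρ (m := 1) (c := 6) le_rfl (by norm_num) (by omega) (by rw [hQ]; exact ⟨4, rfl⟩) hx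
  have h2 := Dm_mul' ι ρ 3 hF (m := 4) (n := 1) (by norm_num) le_rfl (by omega) (ρ w x)
  rw [h1, h2]
  congr 1
  have h3 : ((3 : ℕ) : k) = 0 := CharP.cast_eq_zero k 3
  have h4 : ((Nat.choose (4 + 1) 4 : ℕ) : k) = 5 := by
    have h5 : Nat.choose (4 + 1) 4 = 5 := by decide
    rw [h5]; norm_num
  rw [h4]
  push_cast at h3
  linear_combination (-2 : k) * h3

include hF in
/-- `D_1 w x` for `W ≅ V_4` -/
theorem theta_le (hb : IsV ι 3 (subRep ρ W hW) 4) : ∃ v0 : V,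
    (Fw ι ρ 6 ⊓ (Aw ι (quotRep ρ W hW) 6 1).comap W.mkQ).map ((Dm ι ρ 1) ∘ₗ (ρ w)) ≤ Submodule.span k {v0} := by
  have hQ := cardQ hF
  obtain ⟨v, hv⟩ := hb.bas
  refine ⟨v 0, ?_⟩
  rintro _ ⟨x, ⟨hx1, hx2⟩, rfl⟩
  have hy := D_mem ι ρ hW hx2
  have hwt := D_wt ι hF ρ (c := 6) (e := 1) (n := 4) (by norm_num) (by norm_num) hx1
  set y := Dm ι ρ 1 (ρ w x) with hydef
  -- the coordinates
  set z : W := ⟨y, hy⟩ with hz
  have hzw : ∀ a, subRep ρ W hW (h a) z = ι a ^ 4 • z := fun a => Subtype.ext (hwt a)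
  have hrel : subRep ρ W hW w z = Dm ι (subRep ρ W hW) 4 z := by
    apply Subtype.ext
    have h1 := Dm_comm ι (subRep ρ W hW) ρ W.subtype (fun g x => rfl) 4 z
    have h2 : ((Dm ι (subRep ρ W hW) 4 z : W) : V) = Dm ι ρ 4 y := h1
    rw [h2]
    exact rel6 ι hF ρ hx1
  have h4 : (bs ι hv).repr z ⟨4, self_mem_Bf 4⟩ = 0 := by
    have h5 := coord_w ι hv z
    rw [hrel, coord_D ι hv (by norm_num), show (-1 : k) ^ 4 = 1 by norm_num, one_mul] at h5
    exact h5.symm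
  have hzv : z = (bs ι hv).repr z ⟨0, zero_mem_Bf 4⟩ • v 0 := by
    apply (bs ι hv).repr.injective
    ext m
    have h6 : v 0 = bs ι hv ⟨0, zero_mem_Bf 4⟩ := (bs_apply ι hv ⟨0, zero_mem_Bf 4⟩).symm
    rw [map_smul, h6, Module.Basis.repr_self, Finsupp.smul_apply, Finsupp.single_apply]
    by_cases h0 : (⟨0, zero_mem_Bf 4⟩ : Bf k 4) = m
    · rw [if_pos h0, smul_eq_mul, mul_one, h0]
    · rw [if_neg h0, smul_zero]
      by_cases hm4 : m = ⟨4, self_mem_Bf 4⟩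
      · rw [hm4, h4]
      · apply coord_zero ι hF hv hzw
        obtain ⟨hmb, hmc⟩ := mem_Bf.1 m.2
        have h7 : (m : ℕ) ≠ 0 := fun h => h0 (Subtype.ext h.symm)
        have h8 : (m : ℕ) ≠ 4 := fun h => hm4 (Subtype.ext h)
        omega
  show y ∈ Submodule.span k {((v 0 : W) : V)}
  rw [Submodule.mem_span_singleton]
  exact ⟨_, (congrArg Subtype.val hzv).symm⟩

include hF in
theorem step4 [FiniteDimensional k V] (hb : IsV ι 3 (subRep ρ W hW) 4) :
    Module.finrank k (Aw ι (quotRep ρ W hW) 6 1) ≤ Module.finrank k (Aw ι ρ 6 1) + 1 := by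
  refine (lin1 (lift_B ι hF ρ hW (b := 4) hb (by decide))).trans ?_
  obtain ⟨v0, hv0⟩ := theta_le ι hF ρ hW hb
  exact lin3 ((Dm ι ρ 1) ∘ₗ (ρ w)) (fun x hx => ⟨hx.1.1, hx.2⟩) hv0

include hF in
theorem step2 [FiniteDimensional k V] (hb : IsV ι 3 (subRep ρ W hW) 2) :
    Module.finrank k (Aw ι (quotRep ρ W hW) 6 1) ≤ Module.finrank k (Aw ι ρ 6 1) := by
  refine (lin1 (lift_B ι hF ρ hW (b := 2) hb (by decide))).trans (Submodule.finrank_mono ?_)
  exact B_le_A ι hF ρ hW (n := 4) hb (by norm_num) (by norm_num) (by decide)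

include hF in
theorem step6 [FiniteDimensional k V] (hb : IsV ι 3 (subRep ρ W hW) 6) :
    Module.finrank k (Aw ι (quotRep ρ W hW) 6 1) + 1 ≤ Module.finrank k (Aw ι ρ 6 1) := by
  obtain ⟨m, hm0, hm⟩ := hw_Aw ι hF (subRep ρ W hW) ce6 hb
  have hm' : ((m : W) : V) ∈ Aw ι ρ 6 1 := Aw_map ι (subRep ρ W hW) ρ W.subtype (fun g x => rfl) hm
  refine (lin2 (lift_B ι hF ρ hW (b := 6) hb (by decide)) (m := (m : V)) (A_le_B ι ρ hW hm')
    (fun h => hm0 (Subtype.ext h)) ((Submodule.Quotient.mk_eq_zero W).2 m.2)).trans (Submodule.finrank_mono ?_)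
  exact B_le_A ι hF ρ hW (n := 4) hb (by norm_num) (by norm_num) (by decide)

end

variable [IsAlgClosed k]

include hF in
theorem ext60 : Ext0 (Sy.{u, v, w} ι 3) 6 0 := by
  refine ext0_of_Hs ι 3 hF {6} (fun d hd => ?_) (fun z hz => ?_) ?_
  · rw [Multiset.mem_singleton] at hd
    rw [hd]
    norm_num
  · rw [cs_singleton, chB_zero, mul_one]
  · exact Hs_eq_zero (by
      intro b hb
      rw [Multiset.mem_singleton] at hb
      rw [hb]
      decide)

include hF in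
theorem step0 {V : Type v} [AddCommGroup V] [Module k V] [FiniteDimensional k V]
    (ρ : Representation k (SpecialLinearGroup (Fin 2) F) V) {W : Submodule k V} (hW : ∀ g, ∀ x ∈ W, ρ g x ∈ W)
    (hb : IsV ι 3 (subRep ρ W hW) 0) :
    Module.finrank k (Aw ι (quotRep ρ W hW) 6 1) ≤ Module.finrank k (Aw ι ρ 6 1) := by
  refine lin1 (f := W.mkQ) fun y hy => ?_
  by_cases hy0 : y = 0
  · rw [hy0]
    exact Submodule.zero_mem _
  obtain ⟨Z, hZ, hZ6, hyZ⟩ := inSoc_of_Aw ι hF (quotRep ρ W hW) ce6 hy hy0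
  obtain ⟨X, hX, -, hXZ, hXW⟩ := lift0 (S := Sy.{u, v, w} ι 3) W hW (c := 6) (fun b hb' => by
    rw [cf_irr (Sy.{u, v, w} ι 3) hb, Multiset.mem_singleton] at hb'
    rw [hb']
    exact ext60 ι hF) Z hZ hZ6
  rw [← hXZ] at hyZ
  obtain ⟨x, hx, rfl⟩ := hyZ
  have key : ∀ z ∈ X, W.mkQ z = 0 → z = 0 := fun z hz h0 => by
    have h1 : z ∈ X ⊓ W := ⟨hz, (Submodule.Quotient.mk_eq_zero W).1 h0⟩
    rw [hXW] at h1
    exact (Submodule.mem_bot k).1 h1
  refine ⟨x, ⟨⟨fun t => ?_, fun a => ?_⟩, ?_⟩, rfl⟩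
  · rw [← sub_eq_zero]
    exact key _ (X.sub_mem (hX _ _ hx) hx) (by rw [map_sub, ← quotRep_mk ρ W hW, hy.1.1, sub_self])
  · rw [← sub_eq_zero]
    exact key _ (X.sub_mem (hX _ _ hx) (X.smul_mem _ hx))
      (by rw [map_sub, ← quotRep_mk ρ W hW, hy.1.2, map_smul, sub_self])
  · exact key _ (Dm_mem_inv ι ρ hX 1 (hX _ _ hx)) ((Submodule.Quotient.mk_eq_zero W).2 (D_mem ι ρ hW hy))

include hF in
/-- **the pressure inequality for `V_6`** -/
theorem press6' (n : ℕ) : ∀ {V : Type v} [AddCommGroup V] [Module k V] [FiniteDimensional k V]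
    {ρ : Representation k (SpecialLinearGroup (Fin 2) F) V} {s : Multiset ℕ}, JHn (Sy.{u, v, w} ι 3) n ρ s →
    (∀ b ∈ s, b = 0 ∨ b = 2 ∨ b = 4 ∨ b = 6) → s.count 6 ≤ Module.finrank k (Aw ι ρ 6 1) + s.count 4 := by
  induction n with
  | zero =>
    intro V _ _ _ ρ s hs _
    rw [hs.2]
    exact Nat.zero_le _
  | succ n ih =>
    intro V _ _ _ ρ s hs hall
    obtain ⟨W, hW, b, t, hb, rfl, ht⟩ := hs
    have h1 := ih ht fun c hc => hall c (Multiset.mem_cons_of_mem hc)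
    have h2 := hall b (Multiset.mem_cons_self b t)
    rw [Multiset.count_cons, Multiset.count_cons]
    rcases h2 with rfl | rfl | rfl | rfl
    · have h3 := step0 ι hF ρ hW hb
      simp only [OfNat.ofNat_ne_zero, if_false, add_zero]
      omega
    · have h3 := step2 ι hF ρ hW hb
      rw [if_neg (by norm_num), if_neg (by norm_num)]
      omega
    · have h3 := step4 ι hF ρ hW hb
      rw [if_neg (by norm_num), if_pos rfl]
      omega
    · have h3 := step6 ι hF ρ hW hb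
      rw [if_pos rfl, if_neg (by norm_num)]
      omega

include hF in
theorem press6 {V : Type v} [AddCommGroup V] [Module k V] [FiniteDimensional k V]
    (ρ : Representation k (SpecialLinearGroup (Fin 2) F) V)
    (hall : ∀ b ∈ cf (Sy.{u, v, w} ι 3) ρ, b = 0 ∨ b = 2 ∨ b = 4 ∨ b = 6) :
    (cf (Sy.{u, v, w} ι 3) ρ).count 6 ≤ Module.finrank k (Aw ι ρ 6 1) + (cf (Sy.{u, v, w} ι 3) ρ).count 4 := by
  obtain ⟨n, hn⟩ := cf_spec (Sy.{u, v, w} ι 3) ρ
  exact press6' ι hF n hn hall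

end Cfsg.Agent.R2.T1.N6L
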